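import Groth.Agent.SiteCoh.CechCover

/-!
# Naturality of the comparison of the Čech complex with `Hom` out of the free resolution
-/

universe u

open CategoryTheory CategoryTheory.Limits Opposite Simplicial AlgebraicTopology
open CategoryTheory.Abelian

namespace Groth.Agent.HyperCech.CechNat

open SiteCoh

variable {C : Type u} [SmallCategory C] [HasPullbacks C] {U : C} {ι : Type u} (Y : ι → Over U)
  (J : GrothendieckTopology C)

omit [HasPullbacks C] in
theorem ev_comp {F G : Sheaf J AddCommGrpCat.{u}} (g : F ⟶ G)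
    (x : FormalCoproduct.{u} (Over U)) (i : x.I)
    (φ : (Free.freePre J).obj (Cech.coprodPsh.{u}.obj x) ⟶ F) :
    Cech.ev J G x i (φ ≫ g) = g.hom.app _ (Cech.ev J F x i φ) := by
  refine Eq.trans ?_ (Free.sectionEquiv_comp J ((Free.freePre J).map (Cech.pt x i) ≫ φ) g)
  simp only [Cech.ev, AddMonoidHom.comp_apply, AddEquiv.coe_toAddMonoidHom]
  refine congrArg (Free.sectionEquiv J (x.obj i).left G) ?_
  show _ ≫ φ ≫ g = (_ ≫ φ) ≫ g
  rw [Category.assoc]

omit [HasPullbacks C] in
theorem evAll_natural {F G : Sheaf J AddCommGrpCat.{u}} (g : F ⟶ G)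
    (x : FormalCoproduct.{u} (Over U)) :
    AddCommGrpCat.ofHom (Preadditive.rightComp _ g) ≫ Cech.evAll J G x =
      Cech.evAll J F x ≫ Limits.Pi.map fun i => g.hom.app (op (x.obj i).left) := by
  refine Pi.hom_ext _ _ fun k => ?_
  rw [Category.assoc, Category.assoc, Pi.map_π, Cech.evAll, Cech.evAll, Pi.lift_π, Pi.lift_π_assoc]
  ext φ
  exact ev_comp J g x k φ

theorem cechComplexIso_inv_f (F : Sheaf J AddCommGrpCat.{u}) (n : ℕ) :
    (Cech.cechComplexIso Y J F).inv.f n =
      Cech.evAll J F ((FormalCoproduct.mk ι Y).cech.obj (op ⦋n⦌)) := by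
  simp only [Cech.cechComplexIso, Iso.trans_inv, Functor.mapIso_inv, HomologicalComplex.comp_f]
  exact Category.id_comp _

theorem cechComplexIso_natural {F G : Sheaf J AddCommGrpCat.{u}} (g : F ⟶ G) :
    (cechComplexFunctor Y).map (Functor.whiskerLeft (Over.forget U).op g.hom) ≫
        (Cech.cechComplexIso Y J G).hom =
      (Cech.cechComplexIso Y J F).hom ≫ (HomRes.homCx (CechCover.cx Y J)).map g := by
  refine (Iso.eq_comp_inv _).1 ?_
  rw [Category.assoc]
  refine (Iso.inv_comp_eq _).1 ?_
  refine HomologicalComplex.hom_ext _ _ fun n => ?_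
  rw [HomologicalComplex.comp_f, HomologicalComplex.comp_f, cechComplexIso_inv_f, cechComplexIso_inv_f]
  exact (evAll_natural J g ((FormalCoproduct.mk ι Y).cech.obj (op ⦋n⦌))).symm

end Groth.Agent.HyperCech.CechNat
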