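import Groth.Agent.HyperCech.Exact
import Mathlib.Algebra.Homology.HomotopyCategory.Acyclic

/-!
# Comparing maps in the homotopy and derived category out of relatively acyclic complexes
-/

universe w w' v u

open CategoryTheory CategoryTheory.Limits CategoryTheory.Abelian CochainComplex CochainComplex.HomComplex
  CategoryTheory.Pretriangulated HomotopyCategory

namespace Groth.Agent.HyperCech.Compare

variable {A : Type u} [Category.{v} A] [Abelian A]

local notation "qq" => HomotopyCategory.quotient A (ComplexShape.up ℤ)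

theorem acyclic_mappingCone {K L : CochainComplex A ℤ} (φ : K ⟶ L) [QuasiIso φ] (i : ℤ) :
    (mappingCone φ).ExactAt i := by
  have h : (subcategoryAcyclic A).trW ((qq).map φ) := by
    rw [← quasiIso_eq_trW_subcategoryAcyclic, quotient_map_mem_quasiIso_iff,
      HomologicalComplex.mem_quasiIso_iff]
    infer_instance
  exact (quotient_obj_mem_subcategoryAcyclic_iff_exactAt _).1
    ((ObjectProperty.trW_iff_of_distinguished (subcategoryAcyclic A) (mappingCone.triangleh φ)
      (mappingCone_triangleh_distinguished φ)).1 h) i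

variable [HasExt.{w} A]

theorem subsingleton_ext_cone {K L : CochainComplex A ℤ} (φ : K ⟶ L) (Q : A)
    (hK : ∀ i (q : ℕ), Subsingleton (Ext Q (K.X i) (q + 1)))
    (hL : ∀ i (q : ℕ), Subsingleton (Ext Q (L.X i) (q + 1))) (i : ℤ) (q : ℕ) :
    Subsingleton (Ext Q ((mappingCone φ).X i) (q + 1)) :=
  subsingleton_of_forall_eq 0 fun x => by
    rw [← x.comp_mk₀_id, ← mappingCone.id_X φ i (i + 1) rfl, Ext.mk₀_add, Ext.comp_add,
      ← Ext.mk₀_comp_mk₀, ← Ext.mk₀_comp_mk₀, ← Ext.comp_assoc_of_second_deg_zero,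
      ← Ext.comp_assoc_of_second_deg_zero, (hK (i + 1) q).elim (x.comp _ (add_zero _)) 0,
      (hL i q).elim (x.comp _ (add_zero _)) 0, Ext.zero_comp, Ext.zero_comp, add_zero]

section

variable (P : CochainComplex A ℤ) (b : ℤ) (hb : ∀ p, b < p → IsZero (P.X p))
  {K L : CochainComplex A ℤ} (φ : K ⟶ L) [QuasiIso φ] (a : ℤ) (hKa : ∀ i, i < a → IsZero (K.X i))
  (hLa : ∀ i, i < a → IsZero (L.X i))
  (hK : ∀ p i (q : ℕ), Subsingleton (Ext (P.X p) (K.X i) (q + 1)))
  (hL : ∀ p i (q : ℕ), Subsingleton (Ext (P.X p) (L.X i) (q + 1)))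

include hb hKa hLa hK hL in
theorem hom_cone_eq_zero (m : ℤ)
    (f : (qq).obj P ⟶ ((qq).obj (mappingCone φ))⟦m⟧) : f = 0 := by
  let e := ((qq).commShiftIso m).app (mappingCone φ)
  obtain ⟨x, hx⟩ := (CohomologyClass.toHom_bijective P (mappingCone φ) m).2 (f ≫ e.inv)
  obtain ⟨z, rfl⟩ := x.mk_surjective
  have hz : z ∈ coboundaries P (mappingCone φ) m := by
    refine Exact.mem_coboundaries_of_exact b hb (fun p i j hij g hg => ?_) z
    exact Exact.exists_lift_of_ext (mappingCone φ) (P.X p) (a - 1)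
      (fun i hi => (mappingCone.isZero_X_iff φ i).2 ⟨hKa _ (by omega), hLa _ (by omega)⟩)
      (acyclic_mappingCone φ) (fun i q => subsingleton_ext_cone φ _ (hK p) (hL p) i q) i j hij g hg
  rw [(CohomologyClass.mk_eq_zero_iff z).2 hz, map_zero] at hx
  rw [← cancel_mono e.inv, ← hx, zero_comp]

include hb hKa hLa hK hL in
/-- Postcomposition with a quasi-isomorphism is bijective. -/
theorem comp_shift_bijective (n : ℤ) :
    Function.Bijective (fun f : (qq).obj P ⟶ ((qq).obj K)⟦n⟧ => f ≫ ((qq).map φ)⟦n⟧') := by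
  let T := (Triangle.shiftFunctor (HomotopyCategory A (ComplexShape.up ℤ)) n).obj (mappingCone.triangleh φ)
  have hT : T ∈ distTriang _ := Triangle.shift_distinguished _ (mappingCone_triangleh_distinguished φ) n
  have hmor : ∀ f : (qq).obj P ⟶ ((qq).obj K)⟦n⟧, f ≫ T.mor₁ = n.negOnePow • (f ≫ ((qq).map φ)⟦n⟧') :=
    fun f => by
      show f ≫ (n.negOnePow • ((qq).map φ)⟦n⟧') = _
      rw [Units.smul_def, Units.smul_def, Preadditive.comp_zsmul]
  refine ⟨fun f g hfg => ?_, fun f => ?_⟩
  · rw [← sub_eq_zero]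
    have h0 : (f - g) ≫ T.mor₁ = 0 := by
      rw [hmor, Preadditive.sub_comp, show f ≫ ((qq).map φ)⟦n⟧' = g ≫ ((qq).map φ)⟦n⟧' from hfg,
        sub_self, Units.smul_def, zsmul_zero]
      rfl
    obtain ⟨h, hh⟩ := Triangle.coyoneda_exact₂ _ (inv_rot_of_distTriang _ hT) (f - g) h0
    have e := (CategoryTheory.shiftFunctorAdd' (HomotopyCategory A (ComplexShape.up ℤ)) n (-1) (n - 1) (by omega)).app
      ((qq).obj (mappingCone φ))
    have h' : h ≫ e.inv = 0 := hom_cone_eq_zero P b hb φ a hKa hLa hK hL (n - 1) _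
    have h'' : h = 0 := (cancel_mono e.inv).1 (h'.trans zero_comp.symm)
    rw [hh, h'']
    exact zero_comp
  · obtain ⟨g, hg⟩ := Triangle.coyoneda_exact₂ _ hT f (hom_cone_eq_zero P b hb φ a hKa hLa hK hL n _)
    refine ⟨n.negOnePow • g, ?_⟩
    show (n.negOnePow • g) ≫ _ = f
    refine Eq.trans ?_ ((hg.trans (hmor g)).symm)
    rw [Units.smul_def, Units.smul_def]
    exact Preadditive.zsmul_comp _ _ _

omit [HasExt.{w} A] in
/-- Cohomology classes as morphisms to a shift in the homotopy category. -/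
noncomputable def classHom (P L : CochainComplex A ℤ) (n : ℤ) :
    CohomologyClass P L n →+ ((qq).obj P ⟶ ((qq).obj L)⟦n⟧) :=
  (Preadditive.rightComp _ (((qq).commShiftIso n).hom.app L)).comp CohomologyClass.toHom

omit [HasExt.{w} A] in
theorem classHom_bijective (P L : CochainComplex A ℤ) (n : ℤ) : Function.Bijective (classHom P L n) :=
  Function.Bijective.comp (g := fun f => f ≫ ((qq).commShiftIso n).hom.app L) (f := CohomologyClass.toHom)
    ⟨fun f f' h => (cancel_mono (((qq).commShiftIso n).hom.app L)).1 h, fun f =>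
      ⟨f ≫ ((qq).commShiftIso n).inv.app L,
        (Category.assoc _ _ _).trans ((congrArg _ (((qq).commShiftIso n).inv_hom_id_app L)).trans (Category.comp_id _))⟩⟩
    (CohomologyClass.toHom_bijective P L n)

include φ hb hKa hLa hK hL in
/-- Cochain classes into quasi-isomorphic relatively acyclic complexes agree. -/
theorem nonempty_classEquiv (n : ℤ) : Nonempty (CohomologyClass P K n ≃+ CohomologyClass P L n) :=
  ⟨(AddEquiv.ofBijective _ (classHom_bijective P K n)).trans
    ((AddEquiv.ofBijective (Preadditive.rightComp ((qq).obj P) (((qq).map φ)⟦n⟧'))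
      (comp_shift_bijective P b hb φ a hKa hLa hK hL n)).trans
      (AddEquiv.ofBijective _ (classHom_bijective P L n)).symm)⟩

end

end Groth.Agent.HyperCech.Compare
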