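import Groth.Agent.HyperCech.Exact

/-!
# Cohomology classes of `HomComplex` and morphisms in the derived category
-/

universe w v u

open CategoryTheory CategoryTheory.Limits CochainComplex CochainComplex.HomComplex

namespace Groth.Agent.HyperCech.Derived

variable {A : Type u} [Category.{v} A] [Abelian A] [HasDerivedCategory.{w} A]

variable (P L : CochainComplex A ℤ) (n : ℤ)

/-- The target comparison. -/
noncomputable def tgt : DerivedCategory.Qh.obj ((HomotopyCategory.quotient A _).obj (L⟦n⟧)) ≅
    (DerivedCategory.Q.obj L)⟦n⟧ :=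
  (DerivedCategory.quotientCompQhIso A).app (L⟦n⟧) ≪≫ (DerivedCategory.Q.commShiftIso n).app L

/-- The map from cohomology classes to morphisms in the derived category. -/
noncomputable def Th : CohomologyClass P L n →+ (DerivedCategory.Q.obj P ⟶ (DerivedCategory.Q.obj L)⟦n⟧) :=
  ((Preadditive.leftComp _ ((DerivedCategory.quotientCompQhIso A).inv.app P)).comp
    ((Preadditive.rightComp _ (tgt L n).hom).comp
      ((Functor.mapAddHom DerivedCategory.Qh).comp CohomologyClass.toHom)))

theorem Th_mk (z : Cocycle P L n) :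
    Th P L n (CohomologyClass.mk z) = DerivedCategory.Q.map (Cocycle.equivHomShift.symm z) ≫
      (DerivedCategory.Q.commShiftIso n).hom.app L := by
  show (DerivedCategory.quotientCompQhIso A).inv.app P ≫
    DerivedCategory.Qh.map (CohomologyClass.toHom (CohomologyClass.mk z)) ≫
      ((DerivedCategory.quotientCompQhIso A).hom.app (L⟦n⟧) ≫
        (DerivedCategory.Q.commShiftIso n).hom.app L) = _
  rw [CohomologyClass.toHom_mk]
  rw [← Category.assoc (DerivedCategory.Qh.map _), DerivedCategory.quotientCompQhIso_hom_naturality,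
    Category.assoc, ← Category.assoc, Iso.inv_hom_id_app]
  exact Category.id_comp _

theorem Th_bijective [L.IsKInjective] : Function.Bijective (Th P L n) := by
  have h1 := CochainComplex.IsKInjective.Qh_map_bijective ((HomotopyCategory.quotient A _).obj P) (L⟦n⟧)
  have h2 := CohomologyClass.toHom_bijective P L n
  let e₁ := Iso.homCongr ((DerivedCategory.quotientCompQhIso A).app P) (tgt L n)
  have : ⇑(Th P L n) = e₁ ∘ (DerivedCategory.Qh.map ∘ CohomologyClass.toHom) := by
    funext x
    rfl
  rw [this]
  exact e₁.bijective.comp (h1.comp h2)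

theorem Th_precomp {P' : CochainComplex A ℤ} (g : P' ⟶ P) (z : Cocycle P L n) :
    Th P' L n (CohomologyClass.mk (z.precomp g)) =
      DerivedCategory.Q.map g ≫ Th P L n (CohomologyClass.mk z) := by
  rw [Th_mk, Th_mk, Cocycle.equivHomShift_symm_precomp, Functor.map_comp, Category.assoc]

/-- Precomposition on cohomology classes. -/
noncomputable def pre {P' : CochainComplex A ℤ} (g : P' ⟶ P) :
    CohomologyClass P L n →+ CohomologyClass P' L n :=
  CohomologyClass.descAddMonoidHom
    (CohomologyClass.mkAddMonoidHom P' L n |>.comp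
      (AddMonoidHom.mk' (fun z => z.precomp g) fun a b => Cocycle.ext (by simp)))
    (by
      rintro x ⟨m, hm, β, hβ⟩
      rw [AddMonoidHom.mem_ker]
      refine (CohomologyClass.mk_eq_zero_iff _).2 ⟨m, hm, (Cochain.ofHom g).comp β (zero_add m), ?_⟩
      rw [δ_ofHom_comp, hβ]
      rfl)

theorem pre_mk {P' : CochainComplex A ℤ} (g : P' ⟶ P) (z : Cocycle P L n) :
    pre P L n g (CohomologyClass.mk z) = CohomologyClass.mk (z.precomp g) := rfl

theorem Th_pre {P' : CochainComplex A ℤ} (g : P' ⟶ P) (x : CohomologyClass P L n) :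
    Th P' L n (pre P L n g x) = DerivedCategory.Q.map g ≫ Th P L n x := by
  obtain ⟨z, rfl⟩ := x.mk_surjective
  rw [pre_mk, Th_precomp]

theorem pre_bijective {P' : CochainComplex A ℤ} (g : P' ⟶ P) [QuasiIso g] [L.IsKInjective] :
    Function.Bijective (pre P L n g) := by
  refine (Function.Bijective.of_comp_iff' (Th_bijective P' L n) _).1 ?_
  rw [show ⇑(Th P' L n) ∘ ⇑(pre P L n g) = (fun f => DerivedCategory.Q.map g ≫ f) ∘ ⇑(Th P L n) from
    funext fun x => Th_pre P L n g x]
  refine Function.Bijective.comp ⟨fun f f' h => (cancel_epi (DerivedCategory.Q.map g)).1 h, fun f =>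
    ⟨inv (DerivedCategory.Q.map g) ≫ f, IsIso.hom_inv_id_assoc _ _⟩⟩ (Th_bijective P L n)

end Groth.Agent.HyperCech.Derived
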