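import Mathlib.Algebra.Homology.HomotopyCategory.HomComplexCohomology
import Mathlib.Algebra.Homology.HomotopyCategory.Pretriangulated
import Mathlib.Algebra.Homology.DerivedCategory.Ext.ExactSequences
import Mathlib.Algebra.Homology.DerivedCategory.Ext.EnoughInjectives
import Mathlib.Algebra.Homology.DerivedCategory.KInjective
import Mathlib.Algebra.Homology.QuasiIso

/-!
# Maps from bounded above complexes of relatively acyclic objects

* `mem_coboundaries_of_exact`: if every `Hom(P^p, C)` is exact and `P` is bounded above, every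
  cocycle from `P` to `C` is a coboundary.
* `exists_lift_of_ext`: `Hom(Q, C)` is exact for an exact bounded below complex `C` whose terms
  have no higher `Ext` from `Q`.
-/

universe w v u

open CategoryTheory CategoryTheory.Limits CategoryTheory.Abelian CochainComplex.HomComplex

namespace Groth.Agent.HyperCech.Exact

variable {A : Type u} [Category.{v} A] [Abelian A]

section Null

variable {P C : CochainComplex A ℤ} (b : ℤ) (hb : ∀ p, b < p → IsZero (P.X p))
  (hex : ∀ (p i j : ℤ), i + 1 = j → ∀ g : P.X p ⟶ C.X j, g ≫ C.d j (j + 1) = 0 →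
    ∃ h : P.X p ⟶ C.X i, h ≫ C.d i j = g)
  {n : ℤ}

include hex in
theorem exists_step (z : Cocycle P C n) (β : Cochain P C (n - 1)) (p : ℤ)
    (h1 : ∀ p' q, p < p' → ∀ hq : p' + n = q, (δ (n - 1) n β).v p' q hq = z.1.v p' q hq) :
    ∃ β' : Cochain P C (n - 1),
      (∀ p' q, p ≤ p' → ∀ hq : p' + n = q, (δ (n - 1) n β').v p' q hq = z.1.v p' q hq) ∧
      ∀ p' q, p' ≠ p → ∀ hq : p' + (n - 1) = q, β'.v p' q hq = β.v p' q hq := by
  let j := p + n
  let g : P.X p ⟶ C.X j := z.1.v p j rfl - (δ (n - 1) n β).v p j rfl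
  have hg : g ≫ C.d j (j + 1) = 0 := by
    have e1 := δ_v n (n + 1) rfl (z.1 - δ (n - 1) n β) p (j + 1) (by omega) j (p + 1) (by omega) rfl
    have hz : δ n (n + 1) (z.1 - δ (n - 1) n β) = 0 := by
      rw [δ_sub, δ_δ, Cocycle.δ_eq_zero, sub_zero]
    have h1' := h1 (p + 1) (j + 1) (by omega) (by omega)
    rw [hz, Cochain.zero_v, Cochain.sub_v, Cochain.sub_v, h1', sub_self, comp_zero, smul_zero,
      add_zero] at e1
    exact e1.symm
  obtain ⟨h, hh⟩ := hex p (j - 1) j (sub_add_cancel j 1) g hg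
  refine ⟨β + Cochain.single h (n - 1), fun p' q hp hq => ?_, fun p' q hp hq => ?_⟩
  · rw [δ_add, Cochain.add_v, δ_v (n - 1) n (sub_add_cancel n 1) (Cochain.single h (n - 1)) p' q hq (q - 1)
      (p' + 1) rfl rfl, Cochain.single_v_eq_zero h (n - 1) (p' + 1) q (by omega) (by omega), comp_zero,
      smul_zero, add_zero]
    rcases eq_or_lt_of_le hp with rfl | hp'
    · obtain rfl : q = j := by omega
      rw [Cochain.single_v, hh]
      exact add_sub_cancel _ _
    · rw [Cochain.single_v_eq_zero h (n - 1) p' (q - 1) (by omega) (by omega), zero_comp, add_zero]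
      exact h1 p' q hp' hq
  · rw [Cochain.add_v, Cochain.single_v_eq_zero h (n - 1) p' q hq hp, add_zero]

include hb hex in
theorem mem_coboundaries_of_exact (z : Cocycle P C n) : z ∈ coboundaries P C n := by
  choose! step hstep1 hstep2 using fun (β : Cochain P C (n - 1)) (k : ℕ)
      (h : ∀ p' q, b - k < p' → ∀ hq : p' + n = q, (δ (n - 1) n β).v p' q hq = z.1.v p' q hq) =>
    exists_step hex z β (b - k) h
  let B : ℕ → Cochain P C (n - 1) := fun k => Nat.rec 0 (fun k β => step β k) k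
  have hB : ∀ k : ℕ, ∀ p' q, b - k < p' → ∀ hq : p' + n = q,
      (δ (n - 1) n (B k)).v p' q hq = z.1.v p' q hq := by
    intro k
    induction k with
    | zero =>
      intro p' q hp hq
      exact (hb p' (by simpa using hp)).eq_of_src _ _
    | succ k ih =>
      intro p' q hp hq
      exact hstep1 (B k) k ih p' q (by push_cast at hp; omega) hq
  have hstab : ∀ k m : ℕ, ∀ p' q, b - k < p' → ∀ hq : p' + (n - 1) = q,
      (B (k + m)).v p' q hq = (B k).v p' q hq := by
    intro k m
    induction m with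
    | zero => intros; rfl
    | succ m ih =>
      intro p' q hp hq
      exact (hstep2 (B (k + m)) (k + m) (hB (k + m)) p' q (by push_cast; omega) hq).trans (ih p' q hp hq)
  refine ⟨n - 1, sub_add_cancel n 1,
    Cochain.mk fun p q hq => (B (b + 1 - p).toNat).v p q hq, ?_⟩
  refine Cochain.ext _ _ fun p q hq => ?_
  let K := (b + 1 - p).toNat
  rw [← hB K p q (by omega) hq, δ_v (n - 1) n (sub_add_cancel n 1) _ p q hq (q - 1) (p + 1) rfl rfl,
    δ_v (n - 1) n (sub_add_cancel n 1) _ p q hq (q - 1) (p + 1) rfl rfl, Cochain.mk_v, Cochain.mk_v]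
  have e : (B (b + 1 - (p + 1)).toNat).v (p + 1) q (by omega) = (B K).v (p + 1) q (by omega) := by
    by_cases hp : b < p + 1
    · exact (hb _ hp).eq_of_src _ _
    · obtain ⟨m, hm⟩ : ∃ m, K = (b + 1 - (p + 1)).toNat + m := ⟨K - (b + 1 - (p + 1)).toNat, by omega⟩
      rw [hm, hstab _ m (p + 1) q (by omega)]
  rw [e]

end Null

section Hom

variable [HasExt.{w} A] (C : CochainComplex A ℤ) (Q : A) (a : ℤ)
  (ha : ∀ i, i < a → IsZero (C.X i)) (hC : ∀ i, C.ExactAt i)
  (hQ : ∀ i (q : ℕ), Subsingleton (Ext Q (C.X i) (q + 1)))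

/-- The cycles as a short complex `Z^i ⟶ C^i ⟶ Z^j`. -/
noncomputable abbrev cycSES (i j : ℤ) : ShortComplex A :=
  ShortComplex.mk (C.iCycles i) (C.toCycles i j) (by
    rw [← cancel_mono (C.iCycles j), Category.assoc, C.toCycles_i, C.iCycles_d, zero_comp])

include hC in
theorem shortExact_cycSES (i j : ℤ) (hij : i + 1 = j) : (cycSES C i j).ShortExact where
  exact := by
    refine ShortComplex.exact_of_f_is_kernel _ ?_
    refine KernelFork.IsLimit.ofι _ _
      (fun {W} (x : W ⟶ C.X i) hx => C.liftCycles x j (by simp [hij]) (by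
        have h2 : x ≫ C.toCycles i j = 0 := hx
        rw [← C.toCycles_i i j, reassoc_of% h2, zero_comp]))
      (fun x hx => C.liftCycles_i _ _ _ _) fun x hx m hm => ?_
    rw [← cancel_mono (C.iCycles i), C.liftCycles_i]
    exact hm
  mono_f := inferInstanceAs (Mono (C.iCycles i))
  epi_g := Preadditive.epi_of_cancel_zero _ fun {W} (f : C.cycles j ⟶ W) hf => by
    obtain ⟨g, hg⟩ := CokernelCofork.IsColimit.desc' (C.homologyIsCokernel i j (by simp [← hij])) f hf
    have hz : IsZero (C.homology j) := (C.exactAt_iff_isZero_homology j).1 (hC j)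
    rw [← hg, hz.eq_of_src g 0]
    exact comp_zero

include ha hC hQ in
theorem subsingleton_ext_cycles (i : ℤ) (q : ℕ) : Subsingleton (Ext Q (C.cycles i) (q + 1)) := by
  obtain ⟨k, rfl⟩ : ∃ k : ℤ, i = a - 1 + k := ⟨i - (a - 1), by omega⟩
  rcases le_or_gt 0 k with hk | hk
  swap
  · have hz : IsZero (C.cycles (a - 1 + k)) :=
      IsZero.of_mono (C.iCycles _) (ha _ (by omega))
    exact subsingleton_of_forall_eq 0 fun x => by
      rw [← x.comp_mk₀_id, show 𝟙 (C.cycles (a - 1 + k)) = 0 from hz.eq_of_src _ _, Ext.mk₀_zero, Ext.comp_zero]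
  lift k to ℕ using hk
  induction k generalizing q with
  | zero =>
    have hz : IsZero (C.cycles (a - 1 + ((0 : ℕ) : ℤ))) :=
      IsZero.of_mono (C.iCycles _) (ha _ (by simp))
    exact subsingleton_of_forall_eq 0 fun x => by
      rw [← x.comp_mk₀_id, show 𝟙 (C.cycles (a - 1 + ((0 : ℕ) : ℤ))) = 0 from hz.eq_of_src _ _, Ext.mk₀_zero,
        Ext.comp_zero]
  | succ k ih =>
    have hS := shortExact_cycSES C hC (a - 1 + (k : ℤ)) (a - 1 + ((k + 1 : ℕ) : ℤ)) (by omega)
    refine subsingleton_of_forall_eq 0 fun x => ?_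
    obtain ⟨y, hy⟩ := Ext.covariant_sequence_exact₃ Q hS x (n₁ := q + 1 + 1) rfl ((ih (q + 1)).elim _ _)
    rw [← hy, (hQ _ q).elim y 0, Ext.zero_comp]

include ha hC hQ in
theorem exists_lift_of_ext (i j : ℤ) (hij : i + 1 = j) (g : Q ⟶ C.X j) (hg : g ≫ C.d j (j + 1) = 0) :
    ∃ h : Q ⟶ C.X i, h ≫ C.d i j = g := by
  have hS := shortExact_cycSES C hC i j hij
  let g' : Q ⟶ C.cycles j := C.liftCycles g (j + 1) (by simp) hg
  obtain ⟨x, hx⟩ := Ext.covariant_sequence_exact₃ Q hS (Ext.mk₀ g') (n₁ := 1) rfl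
    ((subsingleton_ext_cycles C Q a ha hC hQ i 0).elim _ _)
  obtain ⟨h, rfl⟩ := (Ext.mk₀_bijective _ _).2 x
  rw [Ext.mk₀_comp_mk₀] at hx
  refine ⟨h, ?_⟩
  have e : h ≫ C.toCycles i j = g' := (Ext.mk₀_bijective _ _).1 hx
  rw [← C.toCycles_i i j, reassoc_of% e, C.liftCycles_i]

end Hom

end Groth.Agent.HyperCech.Exact
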