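import Groth.Agent.HyperCech.Main
import Groth.Prelude.Def_HTor

/-!
# The filtration by the degree in the resolution, and its graded pieces
-/

universe w v u

open CategoryTheory CategoryTheory.Limits CochainComplex.HomComplex

namespace Groth.Agent.HyperCech.Filt

theorem isSubquotient_of_maps {R : Type w} [CommRing R] {Z T H G : Type v} [AddCommGroup Z] [Module R Z]
    [AddCommGroup T] [Module R T] [AddCommGroup H] [Module R H] [AddCommGroup G] [Module R G]
    (a : Z →ₗ[R] H) (ψ : Z →ₗ[R] T) (hψ : LinearMap.ker ψ ≤ LinearMap.ker a) (g : G →ₗ[R] H)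
    (hg : Function.Injective g) (hI : LinearMap.range g ≤ LinearMap.range a) :
    HTor.IsSubquotient R G T := by
  let Z' := Submodule.comap a (LinearMap.range g)
  let S := Submodule.map ψ (LinearMap.ker a)
  let S' := Submodule.map ψ Z'
  have hK : LinearMap.ker a ≤ Z' := fun z hz => by
    show a z ∈ LinearMap.range g
    rw [LinearMap.mem_ker.1 hz]
    exact zero_mem _
  refine ⟨S, S', Submodule.map_mono hK, ?_⟩
  let b : Z' →ₗ[R] LinearMap.range g := (a.comp Z'.subtype).codRestrict _ fun z => z.2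
  have hb : Function.Surjective b := fun x => by
    obtain ⟨z, hz⟩ := hI x.2
    exact ⟨⟨z, show a z ∈ LinearMap.range g from hz ▸ x.2⟩, Subtype.ext hz⟩
  let φ : Z' →ₗ[R] S' := (ψ.comp Z'.subtype).codRestrict _ fun z => Submodule.mem_map_of_mem z.2
  let c : Z' →ₗ[R] ↥S' ⧸ Submodule.comap S'.subtype S := (Submodule.comap S'.subtype S).mkQ.comp φ
  have hc : Function.Surjective c := (Submodule.mkQ_surjective _).comp fun x => by
    obtain ⟨z, hz, he⟩ := Submodule.mem_map.1 x.2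
    exact ⟨⟨z, hz⟩, Subtype.ext he⟩
  have hker : LinearMap.ker b = LinearMap.ker c := by
    ext z
    rw [LinearMap.mem_ker, LinearMap.mem_ker]
    constructor
    · intro h
      refine (Submodule.Quotient.mk_eq_zero (Submodule.comap S'.subtype S)).2 ?_
      exact Submodule.mem_map_of_mem (show z.1 ∈ LinearMap.ker a from congrArg Subtype.val h)
    · intro h
      obtain ⟨w, hw, he⟩ := Submodule.mem_map.1 (show ψ z.1 ∈ S from (Submodule.Quotient.mk_eq_zero (Submodule.comap S'.subtype S)).1 h)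
      refine Subtype.ext (show a z.1 = 0 from ?_)
      have : z.1 - w ∈ LinearMap.ker a := hψ (by rw [LinearMap.mem_ker, map_sub, he, sub_self])
      rw [LinearMap.mem_ker, map_sub, LinearMap.mem_ker.1 hw, sub_zero] at this
      exact this
  exact ⟨(LinearEquiv.ofInjective g hg).trans
    ((b.quotKerEquivOfSurjective hb).symm.trans ((Submodule.quotEquivOfEq _ _ hker).trans
      (c.quotKerEquivOfSurjective hc)))⟩

theorem isSubquotient_ker {R : Type w} [CommRing R] {Z T X H : Type v} [AddCommMonoid Z] [Module R Z]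
    [AddCommGroup T] [Module R T] [AddCommGroup X] [Module R X] [AddCommGroup H] [Module R H]
    (a : Z →ₗ[R] H) (ψ : Z →ₗ[R] T) (hψ : LinearMap.ker ψ ≤ LinearMap.ker a) (f : X →ₗ[R] H)
    (P Q : Submodule R X) (hQ : Q = LinearMap.ker f) (hI : ∀ x ∈ P, f x ∈ LinearMap.range a) :
    HTor.IsSubquotient R (↥P ⧸ Submodule.comap P.subtype Q) T := by
  subst hQ
  refine isSubquotient_of_maps (Z := ↥(LinearMap.range (ψ.prod a)))
    ((LinearMap.snd R T H).comp (Submodule.subtype _)) ((LinearMap.fst R T H).comp (Submodule.subtype _))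
    ?_ ((Submodule.comap P.subtype (LinearMap.ker f)).liftQ
    (f.comp P.subtype) (LinearMap.ker_comp _ _).ge) ?_ ?_
  · rintro ⟨_, z, rfl⟩ hz
    exact hψ (show ψ z = 0 from hz)
  · rw [← LinearMap.ker_eq_bot]
    exact Submodule.ker_liftQ_eq_bot _ _ _ (LinearMap.ker_comp _ _).le
  · rw [Submodule.range_liftQ]
    rintro _ ⟨x, rfl⟩
    obtain ⟨z, hz⟩ := hI x.1 x.2
    exact ⟨⟨_, z, rfl⟩, hz⟩

variable {A : Type u} [Category.{v} A] [Abelian A] (N : ChainComplex A ℕ) (I : CochainComplex A ℤ) (n : ℤ)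

local notation "NZ" => HomologicalComplex.extend N ComplexShape.embeddingDownNat

/-- The identification of a term. -/
noncomputable abbrev e (i : ℕ) : (NZ).X (-(i : ℤ)) ≅ N.X i :=
  N.extendXIso ComplexShape.embeddingDownNat (show _ = -(i : ℤ) from rfl)

theorem dNZ (i : ℕ) : (NZ).d (-((i + 1 : ℕ) : ℤ)) (-(i : ℤ)) = (e N (i + 1)).hom ≫ N.d (i + 1) i ≫ (e N i).inv :=
  HomologicalComplex.extend_d_eq N ComplexShape.embeddingDownNat
    (show _ = -((i + 1 : ℕ) : ℤ) from rfl) (show _ = -(i : ℤ) from rfl)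

/-- The component of a cocycle in resolution degree `i`. -/
noncomputable def cp (i : ℕ) (q : ℤ) (h : q + i = n) : Cocycle NZ I n →+ (N.X i ⟶ I.X q) :=
  AddMonoidHom.mk' (fun z => (e N i).inv ≫ z.1.v (-(i : ℤ)) q (by omega))
    (fun z z' => by
      show (e N i).inv ≫ (z.1 + z'.1).v _ _ _ = _
      rw [Cochain.add_v, Preadditive.comp_add])

theorem cp_apply (i : ℕ) (q : ℤ) (h : q + i = n) (z : Cocycle NZ I n) :
    cp N I n i q h z = (e N i).inv ≫ z.1.v (-(i : ℤ)) q (by omega) := rfl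

theorem eq_zero_of_cp (z : Cocycle NZ I n) (h : ∀ i q hq, cp N I n i q hq z = 0) : z = 0 := by
  refine Cocycle.ext (Cochain.ext _ _ fun p q hpq => ?_)
  rw [show ((0 : Cocycle NZ I n) : Cochain NZ I n) = 0 from rfl, Cochain.zero_v]
  rcases lt_or_ge 0 p with hp | hp
  · exact (Tot.isZero_NZ N p hp).eq_of_src _ _
  · obtain ⟨i, rfl⟩ : ∃ i : ℕ, p = -(i : ℤ) := ⟨(-p).toNat, by omega⟩
    exact (cancel_epi (e N i).inv).1 ((h i q (by omega)).trans comp_zero.symm)

theorem cp_zero_d (q q' : ℤ) (h : q + (0 : ℕ) = n) (hq : q + 1 = q') (z : Cocycle NZ I n) :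
    cp N I n 0 q h z ≫ I.d q q' = 0 := by
  have h0 := Cochain.congr_v (z.δ_eq_zero (n + 1)) (-((0 : ℕ) : ℤ)) q' (by omega)
  rw [δ_v n (n + 1) rfl z.1 (-((0 : ℕ) : ℤ)) q' (by omega) q 1 (by omega) (by simp), Cochain.zero_v] at h0
  rw [(Tot.isZero_NZ N 1 one_pos).eq_of_src (z.1.v 1 q' _) 0, comp_zero, smul_zero, add_zero] at h0
  rw [cp_apply, Category.assoc, h0, comp_zero]

theorem cp_d (i : ℕ) (q q' : ℤ) (h : q + (i + 1 : ℕ) = n) (h' : q' + i = n) (z : Cocycle NZ I n) :
    cp N I n (i + 1) q h z ≫ I.d q q' = -((n + 1).negOnePow • (N.d (i + 1) i ≫ cp N I n i q' h' z)) := by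
  have h0 := Cochain.congr_v (z.δ_eq_zero (n + 1)) (-((i + 1 : ℕ) : ℤ)) q' (by omega)
  rw [δ_v n (n + 1) rfl z.1 (-((i + 1 : ℕ) : ℤ)) q' (by omega) q (-(i : ℤ)) (by omega) (by omega),
    Cochain.zero_v, add_eq_zero_iff_eq_neg, dNZ] at h0
  rw [cp_apply, cp_apply, Category.assoc, h0, Preadditive.comp_neg, Units.smul_def, Units.smul_def,
    Preadditive.comp_zsmul]
  simp

/-- The coboundary of a cochain concentrated in resolution degree `i`. -/
noncomputable def coB (i : ℕ) (q : ℤ) (f : N.X i ⟶ I.X q) : Cocycle NZ I n :=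
  Cocycle.mk (δ (n - 1) n (Cochain.single ((e N i).hom ≫ f) (n - 1))) (n + 1) rfl (δ_δ _ _ _ _)

theorem coB_mem (i : ℕ) (q : ℤ) (f : N.X i ⟶ I.X q) : coB N I n i q f ∈ coboundaries NZ I n :=
  ⟨n - 1, by omega, _, rfl⟩

theorem cp_coB_self (i : ℕ) (q q' : ℤ) (hq : q + i + 1 = n) (f : N.X i ⟶ I.X q) (h : q' + i = n) :
    cp N I n i q' h (coB N I n i q f) = f ≫ I.d q q' := by
  show (e N i).inv ≫ (δ (n - 1) n (Cochain.single ((e N i).hom ≫ f) (n - 1))).v _ _ _ = _
  rw [Cochain.δ_single _ (n - 1) n (by omega) (-((i + 1 : ℕ) : ℤ)) q' (by omega) (by omega), Cochain.add_v,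
    Cochain.units_smul_v, Cochain.single_v, Cochain.single_v_eq_zero _ _ _ _ _ (by omega), smul_zero,
    add_zero]
  simp

theorem cp_coB_succ (i : ℕ) (q : ℤ) (hq : q + i + 1 = n) (f : N.X i ⟶ I.X q) (h : q + (i + 1 : ℕ) = n) :
    cp N I n (i + 1) q h (coB N I n i q f) = n.negOnePow • (N.d (i + 1) i ≫ f) := by
  show (e N (i + 1)).inv ≫ (δ (n - 1) n (Cochain.single ((e N i).hom ≫ f) (n - 1))).v _ _ _ = _
  rw [Cochain.δ_single _ (n - 1) n (by omega) (-((i + 1 : ℕ) : ℤ)) (q + 1) (by omega) rfl, Cochain.add_v,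
    Cochain.units_smul_v, Cochain.single_v, Cochain.single_v_eq_zero _ _ _ _ _ (by omega), zero_add, dNZ,
    Units.smul_def, Units.smul_def, Preadditive.comp_zsmul]
  simp

theorem cp_coB_ne (i j : ℕ) (q q' : ℤ) (hq : q + i + 1 = n) (f : N.X i ⟶ I.X q) (h : q' + j = n)
    (h1 : j ≠ i) (h2 : j ≠ i + 1) : cp N I n j q' h (coB N I n i q f) = 0 := by
  show (e N j).inv ≫ (δ (n - 1) n (Cochain.single ((e N i).hom ≫ f) (n - 1))).v _ _ _ = _
  rw [Cochain.δ_single _ (n - 1) n (by omega) (-((i + 1 : ℕ) : ℤ)) (q + 1) (by omega) rfl, Cochain.add_v,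
    Cochain.units_smul_v, Cochain.single_v_eq_zero _ _ _ _ _ (by omega),
    Cochain.single_v_eq_zero _ _ _ _ _ (by omega), smul_zero, add_zero, comp_zero]

/-- Cocycles whose components below `p` vanish. -/
def Lvl (p : ℕ) : AddSubgroup (Cocycle NZ I n) where
  carrier := {z | ∀ i q h, i < p → cp N I n i q h z = 0}
  zero_mem' := fun i q h _ => map_zero _
  add_mem' := fun ha hb i q h hi => by rw [map_add, ha i q h hi, hb i q h hi, add_zero]
  neg_mem' := fun ha i q h hi => by rw [map_neg, ha i q h hi, neg_zero]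

theorem mem_Lvl {p : ℕ} (z : Cocycle NZ I n) : z ∈ Lvl N I n p ↔ ∀ i q h, i < p → cp N I n i q h z = 0 :=
  Iff.rfl

variable {H : Type w} [AddCommGroup H] (cl : Cocycle (HomologicalComplex.extend N ComplexShape.embeddingDownNat) I n →+ H)

/-- The filtration. -/
noncomputable def G (p : ℕ) : Submodule ℤ H :=
  AddSubgroup.toIntSubmodule ((Lvl N I n p).map cl)

theorem mem_G (p : ℕ) (x : H) : x ∈ G N I n cl p ↔ ∃ z ∈ Lvl N I n p, cl z = x :=
  AddSubgroup.mem_map

theorem G_antitone : Antitone (G N I n cl) := fun p p' h x hx => by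
  obtain ⟨z, hz, rfl⟩ := (mem_G N I n cl p' x).1 hx
  exact (mem_G N I n cl p _).2 ⟨z, fun i q hq hi => hz i q hq (lt_of_lt_of_le hi h), rfl⟩

theorem G_zero (hsurj : Function.Surjective cl) : G N I n cl 0 = ⊤ :=
  eq_top_iff.2 fun x _ => by
    obtain ⟨z, rfl⟩ := hsurj x
    exact (mem_G N I n cl 0 _).2 ⟨z, fun i q hq hi => absurd hi (Nat.not_lt_zero _), rfl⟩

theorem G_eq_bot (a : ℤ) (ha : ∀ i, i < a → IsZero (I.X i)) (p : ℕ) (hp : n - a < p) :
    G N I n cl p = ⊥ :=
  eq_bot_iff.2 fun x hx => by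
    obtain ⟨z, hz, rfl⟩ := (mem_G N I n cl p _).1 hx
    rw [eq_zero_of_cp N I n z fun i q hq => ?_]
    · exact (Submodule.mem_bot ℤ).2 (map_zero cl)
    · rcases lt_or_ge i p with hi | hi
      · exact hz i q hq hi
      · exact (ha q (by omega)).eq_of_tgt _ _

variable (hcl : ∀ z, cl z = 0 ↔ z ∈ coboundaries (HomologicalComplex.extend N ComplexShape.embeddingDownNat) I n)

include hcl in
theorem mem_G_one_iff (q q' : ℤ) (hq : q + (0 : ℕ) = n) (hq' : q' + 1 = q) (z : Cocycle NZ I n) :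
    cl z ∈ G N I n cl 1 ↔ ∃ β : N.X 0 ⟶ I.X q', β ≫ I.d q' q = cp N I n 0 q hq z := by
  constructor
  · intro hz
    obtain ⟨z', hz', he⟩ := (mem_G N I n cl 1 _).1 hz
    obtain ⟨m, hm, γ, hγ⟩ := (hcl (z - z')).1 (by rw [map_sub, he, sub_self])
    obtain rfl : m = n - 1 := by omega
    refine ⟨(e N 0).inv ≫ γ.v (-((0 : ℕ) : ℤ)) q' (by omega), ?_⟩
    have h0 : cp N I n 0 q hq (z - z') = cp N I n 0 q hq z := by
      rw [map_sub, hz' 0 q hq one_pos, sub_zero]
    rw [← h0, cp_apply, ← hγ, δ_v (n - 1) n (by omega) γ (-((0 : ℕ) : ℤ)) q (by omega) q' 1 (by omega) (by simp),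
      (Tot.isZero_NZ N 1 one_pos).eq_of_src (γ.v 1 q _) 0, comp_zero, smul_zero, add_zero, Category.assoc]
  · rintro ⟨β, hβ⟩
    refine (mem_G N I n cl 1 _).2 ⟨z - coB N I n 0 q' β, fun i r hr hi => ?_, ?_⟩
    · obtain rfl : i = 0 := by omega
      obtain rfl : r = q := by omega
      rw [map_sub, cp_coB_self N I n 0 q' r (by omega) β, hβ, sub_self]
    · rw [map_sub, (hcl _).2 (coB_mem N I n 0 q' β), sub_zero]

section Graded

variable (p : ℕ) (q : ℤ) (hq : q + p = n) (C : CochainComplex AddCommGrpCat.{v} ℕ)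
  (Φ : ∀ j, (N.X j ⟶ I.cycles q) →+ C.X j)
  (hd : ∀ (j : ℕ) (f : N.X j ⟶ I.cycles q), C.d j (j + 1) (Φ j f) = Φ (j + 1) (N.d (j + 1) j ≫ f))
  (hsurj : ∀ j, Function.Surjective (Φ j))
  (hker : ∀ (j : ℕ) (f : N.X j ⟶ I.cycles q), Φ j f = 0 ↔ ∃ β : N.X j ⟶ I.X (q - 1), β ≫ I.toCycles (q - 1) q = f)

include hq in
theorem cp_d_eq_zero (z : Lvl N I n p) : cp N I n p q hq z.1 ≫ I.d q (q + 1) = 0 := by
  cases p with
  | zero => exact cp_zero_d N I n q (q + 1) hq rfl z.1
  | succ p' =>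
    rw [cp_d N I n p' q (q + 1) hq (by omega) z.1, z.2 p' (q + 1) (by omega) (Nat.lt_succ_self p'),
      comp_zero, smul_zero, neg_zero]

/-- The cycle valued component in degree `p`. -/
noncomputable def fz : Lvl N I n p →+ (N.X p ⟶ I.cycles q) :=
  AddMonoidHom.mk' (fun z => I.liftCycles (cp N I n p q hq z.1) (q + 1) (by simp) (cp_d_eq_zero N I n p q hq z))
    (fun z z' => by
      rw [← cancel_mono (I.iCycles q), Preadditive.add_comp, HomologicalComplex.liftCycles_i,
        HomologicalComplex.liftCycles_i, HomologicalComplex.liftCycles_i, AddSubgroup.coe_add, map_add])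

theorem fz_i (z : Lvl N I n p) : fz N I n p q hq z ≫ I.iCycles q = cp N I n p q hq z.1 :=
  I.liftCycles_i (cp N I n p q hq z.1) (q + 1) (by simp) (cp_d_eq_zero N I n p q hq z)

include hd hker in
theorem d_Φ_fz (z : Lvl N I n p) : C.d p (p + 1) (Φ p (fz N I n p q hq z)) = 0 := by
  rw [hd, hker]
  refine ⟨-((n + 1).negOnePow • cp N I n (p + 1) (q - 1) (by omega) z.1), ?_⟩
  rw [← cancel_mono (I.iCycles q), Category.assoc, HomologicalComplex.toCycles_i, Category.assoc, fz_i,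
    Preadditive.neg_comp, Units.smul_def, Preadditive.zsmul_comp, cp_d N I n p (q - 1) q (by omega) hq z.1,
    ← Units.smul_def, smul_neg, neg_neg, smul_smul, Int.units_mul_self, one_smul]

/-- The map to the cohomology of the coefficient complex. -/
noncomputable def psi : Lvl N I n p →+ C.homology p :=
  (C.liftCycles (AddCommGrpCat.ofHom ((Φ p).comp (fz N I n p q hq)) :
      AddCommGrpCat.of (Lvl N I n p) ⟶ C.X p) (p + 1) (by simp)
    (by ext z; exact d_Φ_fz N I n p q hq C Φ hd hker z) ≫ C.homologyπ p).hom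

include hsurj in
theorem exists_of_psi (z : Lvl N I n p) (hz : psi N I n p q hq C Φ hd hker z = 0) :
    ∃ w : Cocycle NZ I n, w ∈ coboundaries NZ I n ∧ z.1 - w ∈ Lvl N I n (p + 1) := by
  let S := ShortComplex.mk (C.toCycles ((ComplexShape.up ℕ).prev p) p) (C.homologyπ p)
    (C.toCycles_comp_homologyπ _ p)
  have hS : S.Exact := ShortComplex.exact_of_g_is_cokernel S (C.homologyIsCokernel _ p rfl)
  obtain ⟨y, hy⟩ := (ShortComplex.ab_exact_iff S).1 hS _ hz
  obtain ⟨j, hj, y, hy'⟩ : ∃ (j : ℕ) (_ : (ComplexShape.up ℕ).prev p = j) (y : C.X j),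
      C.d j p y = Φ p (fz N I n p q hq z) := by
    refine ⟨_, rfl, y, (ConcreteCategory.congr_hom (C.toCycles_i ((ComplexShape.up ℕ).prev p) p) y).symm.trans ?_⟩
    refine (congrArg (C.iCycles p) hy).trans ?_
    exact ConcreteCategory.congr_hom (C.liftCycles_i
      (AddCommGrpCat.ofHom ((Φ p).comp (fz N I n p q hq)) : AddCommGrpCat.of (Lvl N I n p) ⟶ C.X p) (p + 1) (by simp)
      (by ext z; exact d_Φ_fz N I n p q hq C Φ hd hker z)) z
  -- a cocycle with the same component in degree `p`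
  suffices h : ∃ (w : Cocycle NZ I n) (g : N.X p ⟶ I.cycles q), w ∈ coboundaries NZ I n ∧
      Φ p g = Φ p (fz N I n p q hq z) ∧ (∀ i r hr, i < p → cp N I n i r hr w = 0) ∧
      cp N I n p q hq w = g ≫ I.iCycles q by
    obtain ⟨w, g, hw, hg, hlo, hp⟩ := h
    obtain ⟨β, hβ⟩ := (hker p (fz N I n p q hq z - g)).1 (by rw [map_sub, hg, sub_self])
    refine ⟨w + coB N I n p (q - 1) β, add_mem hw (coB_mem N I n p (q - 1) β), fun i r hr hi => ?_⟩
    rcases Nat.lt_succ_iff_lt_or_eq.1 hi with hi | rfl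
    · rw [map_sub, map_add, z.2 i r hr hi, hlo i r hr hi,
        cp_coB_ne N I n p i (q - 1) r (by omega) β hr (by omega) (by omega), add_zero, sub_zero]
    · obtain rfl : r = q := by omega
      rw [map_sub, map_add, hp, cp_coB_self N I n i (r - 1) r (by omega) β, ← fz_i N I n i r hq z,
        ← HomologicalComplex.toCycles_i, ← Category.assoc, hβ, Preadditive.sub_comp]
      abel
  cases p with
  | zero =>
    refine ⟨0, 0, zero_mem _, ?_, fun i r hr _ => map_zero _, by rw [map_zero, zero_comp]⟩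
    rw [map_zero, ← hy', C.shape j 0 (by simp)]
    rfl
  | succ p' =>
    obtain rfl : p' = j := (CochainComplex.prev_nat_succ p').symm.trans hj
    obtain ⟨e', rfl⟩ := hsurj p' y
    rw [hd] at hy'
    refine ⟨n.negOnePow • coB N I n p' q (e' ≫ I.iCycles q), N.d (p' + 1) p' ≫ e', ?_, hy', fun i r hr hi => ?_, ?_⟩
    · rw [Units.smul_def]
      exact AddSubgroup.zsmul_mem _ (coB_mem N I n p' q _) _
    · rw [Units.smul_def, map_zsmul]
      rcases Nat.lt_succ_iff_lt_or_eq.1 hi with hi | rfl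
      · rw [cp_coB_ne N I n p' i q r (by omega) _ hr (by omega) (by omega), smul_zero]
      · obtain rfl : r = q + 1 := by omega
        rw [cp_coB_self N I n i q (q + 1) (by omega), Category.assoc, HomologicalComplex.iCycles_d,
          comp_zero, smul_zero]
    · rw [Units.smul_def, map_zsmul, cp_coB_succ N I n p' q (by omega) _ hq, Units.smul_def, smul_smul,
        ← Units.val_mul, Int.units_mul_self, Units.val_one, one_smul, Category.assoc]

end Graded

section

variable {H' : Type v} [AddCommGroup H'] (cl' : Cocycle (HomologicalComplex.extend N ComplexShape.embeddingDownNat) I n →+ H')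
  (hcl' : ∀ z, cl' z = 0 ↔ z ∈ coboundaries (HomologicalComplex.extend N ComplexShape.embeddingDownNat) I n)
  (p : ℕ) (q : ℤ) (hq : q + p = n)
  (C : CochainComplex AddCommGrpCat.{v} ℕ) (Φ : ∀ j, (N.X j ⟶ I.cycles q) →+ C.X j)
  (hd : ∀ (j : ℕ) (f : N.X j ⟶ I.cycles q), C.d j (j + 1) (Φ j f) = Φ (j + 1) (N.d (j + 1) j ≫ f))
  (hsurj : ∀ j, Function.Surjective (Φ j))
  (hker : ∀ (j : ℕ) (f : N.X j ⟶ I.cycles q), Φ j f = 0 ↔ ∃ β : N.X j ⟶ I.X (q - 1), β ≫ I.toCycles (q - 1) q = f)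

set_option maxHeartbeats 1000000 in
include hcl' hq hd hsurj hker in
/-- The graded pieces are subquotients of the cohomology of the coefficient complex. -/
theorem isSubquotient_graded :
    HTor.IsSubquotient ℤ (HTor.grDesc (G N I n cl') p) (C.homology p) := by
  refine isSubquotient_ker (Z := ↥(Lvl N I n p)) (X := H') (H := H' ⧸ G N I n cl' (p + 1))
    ((Submodule.mkQ (G N I n cl' (p + 1))).comp
      (AddMonoidHom.toIntLinearMap (AddMonoidHom.comp cl' (AddSubgroup.subtype (Lvl N I n p)))))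
    (AddMonoidHom.toIntLinearMap (M := ↥(Lvl N I n p)) (M₂ := C.homology p) (psi N I n p q hq C Φ hd hker))
    (fun z hz => ?_) (G N I n cl' (p + 1)).mkQ
    (G N I n cl' p) (G N I n cl' (p + 1)) ?hQ (fun x hx => ?_)
  case hQ => exact (Submodule.ker_mkQ (G N I n cl' (p + 1))).symm
  · obtain ⟨w, hw, hzw⟩ := exists_of_psi N I n p q hq C Φ hd hsurj hker z hz
    refine (Submodule.Quotient.mk_eq_zero _).2 ((mem_G N I n cl' (p + 1) _).2 ⟨_, hzw, ?_⟩)
    rw [map_sub, (hcl' w).2 hw, sub_zero]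
    rfl
  · obtain ⟨z, hz, rfl⟩ := (mem_G N I n cl' p x).1 hx
    exact ⟨⟨z, hz⟩, rfl⟩

end

end Groth.Agent.HyperCech.Filt
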