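import Groth.Agent.HyperCech.Tot
import Groth.Agent.HyperCech.Compare
import Groth.Agent.HyperCech.Derived
import Mathlib.Algebra.Homology.HomotopyCategory.HomComplexSingle
import Mathlib.Algebra.Homology.Factorizations.CM5a
import Mathlib.Algebra.Homology.HomotopyCategory.KInjective

/-!
# Hypercohomology through a resolution of the source and an injective resolution

Everything is stated in an abstract abelian category.
-/

universe w v u u'

open CategoryTheory CategoryTheory.Limits CochainComplex.HomComplex
open CategoryTheory.Abelian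

namespace Groth.Agent.HyperCech.Main

open SiteCoh

variable {A : Type u} [Category.{v} A] [Abelian A]

/-- An object as a complex in degree zero. -/
noncomputable abbrev S (T : A) : CochainComplex A ℤ :=
  (CochainComplex.singleFunctor A 0).obj T

/-- A bounded below complex has an injective resolution. -/
theorem exists_resolution [EnoughInjectives A] (K : CochainComplex A ℤ) (a : ℤ)
    (ha : ∀ i, i < a → IsZero (K.X i)) :
    ∃ (I : CochainComplex A ℤ) (φ : K ⟶ I) (_ : QuasiIso φ) (_ : I.IsKInjective)
      (_ : ∀ i, Injective (I.X i)), ∀ i, i < a → IsZero (I.X i) := by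
  have : K.IsStrictlyGE a := (CochainComplex.isStrictlyGE_iff _ _).2 ha
  obtain ⟨I, φ, hφ, hI, hI'⟩ := CochainComplex.Plus.modelCategoryQuillen.exists_quasiIso_injective K a
  exact ⟨I, φ, hφ, CochainComplex.isKInjective_of_injective I a, hI,
    fun i hi => (CochainComplex.isStrictlyGE_iff _ _).1 hI' i hi⟩

section

variable [HasDerivedCategory.{w} A] {K I : CochainComplex A ℤ} (φ : K ⟶ I) [QuasiIso φ] (n : ℤ)

/-- A single object in the derived category. -/
noncomputable def sIso (T : A) :
    (DerivedCategory.singleFunctor A 0).obj T ≅ DerivedCategory.Q.obj (S T) :=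
  (DerivedCategory.singleFunctorIsoCompQ A 0).app T

/-- Classes of cochains into the resolution give hypercohomology classes. -/
noncomputable def hdu (T : A) :
    CohomologyClass (S T) I n →+
      ((DerivedCategory.singleFunctor A 0).obj T ⟶ (DerivedCategory.Q.obj K)⟦n⟧) :=
  (Preadditive.leftComp _ (sIso T).hom).comp
    ((Preadditive.rightComp _ ((inv (DerivedCategory.Q.map φ))⟦n⟧')).comp (Derived.Th (S T) I n))

theorem hdu_bijective [I.IsKInjective] (T : A) : Function.Bijective (hdu φ n T) := by
  show Function.Bijective ((fun f => (sIso T).hom ≫ f) ∘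
    ((fun f => f ≫ (inv (DerivedCategory.Q.map φ))⟦n⟧') ∘ Derived.Th (S T) I n))
  refine Function.Bijective.comp ⟨fun f f' h => (cancel_epi (sIso T).hom).1 h, fun f =>
    ⟨(sIso T).inv ≫ f, (sIso T).hom_inv_id_assoc f⟩⟩
    (Function.Bijective.comp ⟨fun f f' h => (cancel_mono ((inv (DerivedCategory.Q.map φ))⟦n⟧')).1 h,
      fun f => ⟨f ≫ inv ((inv (DerivedCategory.Q.map φ))⟦n⟧'), ?_⟩⟩ (Derived.Th_bijective (S T) I n))
  show (_ ≫ _) ≫ _ = _
  rw [Category.assoc, IsIso.inv_hom_id]
  exact Category.comp_id _

theorem hdu_natural {T' T : A} (g : T' ⟶ T) (x : CohomologyClass (S T) I n) :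
    hdu φ n T' (Derived.pre (S T) I n ((CochainComplex.singleFunctor A 0).map g) x) =
      (DerivedCategory.singleFunctor A 0).map g ≫ hdu φ n T x := by
  show (sIso T').hom ≫ Derived.Th (S T') I n (Derived.pre (S T) I n _ x) ≫ _ =
    (DerivedCategory.singleFunctor A 0).map g ≫ ((sIso T).hom ≫ Derived.Th (S T) I n x ≫ _)
  rw [Derived.Th_pre, ← Category.assoc, ← Category.assoc, ← Category.assoc, ← Category.assoc]
  congr 2
  exact ((DerivedCategory.singleFunctorIsoCompQ A 0).hom.naturality g).symm

end

section

variable (N : ChainComplex A ℕ) {T : A} (π : N ⟶ (ChainComplex.single₀ A).obj T)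

/-- The complex of a resolution, cochain indexing. -/
noncomputable abbrev NZ : CochainComplex A ℤ := N.extend ComplexShape.embeddingDownNat

theorem isZero_NZ (p : ℤ) (hp : 0 < p) : IsZero ((NZ N).X p) :=
  Tot.isZero_NZ N p hp

/-- The augmentation. -/
noncomputable def augS : NZ N ⟶ S T :=
  HomologicalComplex.extendMap π ComplexShape.embeddingDownNat ≫
    (HomologicalComplex.extendSingleIso ComplexShape.embeddingDownNat _ (0 : ℕ) 0 (by simp)).hom

theorem quasiIso_augS [QuasiIso π] : QuasiIso (augS N π) := by
  have : QuasiIso (HomologicalComplex.extendMap π ComplexShape.embeddingDownNat) :=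
    (HomologicalComplex.quasiIso_extendMap_iff _ _).2 inferInstance
  exact inferInstanceAs (QuasiIso (_ ≫ (HomologicalComplex.extendSingleIso _ _ _ _ _).hom))

variable [QuasiIso π] [HasDerivedCategory.{w} A] {K I : CochainComplex A ℤ} (φ : K ⟶ I)
  [QuasiIso φ] [I.IsKInjective] (n : ℤ)

/-- Precomposition with the augmentation. -/
noncomputable def augPre : CohomologyClass (S T) I n →+ CohomologyClass (NZ N) I n :=
  Derived.pre (S T) I n (augS N π)

theorem augPre_bijective : Function.Bijective (augPre N π (I := I) n) := by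
  have := quasiIso_augS N π
  exact Derived.pre_bijective (S T) I n (augS N π)

/-- Classes on the resolution are the hypercohomology. -/
noncomputable def eH : CohomologyClass (NZ N) I n ≃+
    ((DerivedCategory.singleFunctor A 0).obj T ⟶ (DerivedCategory.Q.obj K)⟦n⟧) :=
  (AddEquiv.ofBijective _ (augPre_bijective N π n)).symm.trans
    (AddEquiv.ofBijective _ (hdu_bijective φ n T))

theorem eH_augPre (y : CohomologyClass (S T) I n) : eH N π φ n (augPre N π n y) = hdu φ n T y :=
  congrArg (hdu φ n T) ((AddEquiv.ofBijective _ (augPre_bijective N π n)).symm_apply_apply y)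

end

section

variable {P : Type u'} [Category.{v} P] [Preadditive P] (G : A ⥤ P) [G.PreservesZeroMorphisms]
  (c : P ⥤ CochainComplex AddCommGrpCat.{v} ℕ) [c.PreservesZeroMorphisms] (N : ChainComplex A ℕ)
  (θ : G ⋙ c ≅ HomRes.homCx N) (K : CochainComplex A ℤ)

/-- The double complex of a functor isomorphic to morphisms out of `N`. -/
noncomputable def dblIso :
    ((c ⋙ ComplexShape.embeddingUpNat.extendFunctor AddCommGrpCat.{v}).mapHomologicalComplex (ComplexShape.up ℤ)).obj
      ((G.mapHomologicalComplex (ComplexShape.up ℤ)).obj K) ≅ Tot.dbl N K :=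
  HomologicalComplex.Hom.isoOfComponents
    (fun q => (ComplexShape.embeddingUpNat.extendFunctor AddCommGrpCat.{v}).mapIso (θ.app (K.X q)))
    (fun q q' _ => by
      show (ComplexShape.embeddingUpNat.extendFunctor AddCommGrpCat.{v}).map _ ≫
          (ComplexShape.embeddingUpNat.extendFunctor AddCommGrpCat.{v}).map _ =
        (ComplexShape.embeddingUpNat.extendFunctor AddCommGrpCat.{v}).map _ ≫
          (ComplexShape.embeddingUpNat.extendFunctor AddCommGrpCat.{v}).map _
      rw [← Functor.map_comp, ← Functor.map_comp]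
      exact congrArg _ (θ.hom.naturality (K.d q q')).symm)

variable [HasExt.{v} A] [EnoughInjectives A] [HasDerivedCategory.{w} A] {T : A}
  (π : N ⟶ (ChainComplex.single₀ A).obj T) [QuasiIso π]

include θ π in
/-- The cohomology of the total complex is hypercohomology when all terms are acyclic for `N`. -/
theorem nonempty_hyper (a : ℤ) (ha : ∀ i, i < a → IsZero (K.X i))
    (h : ∀ p i (q : ℕ), Subsingleton (Ext ((NZ N).X p) (K.X i) (q + 1))) (n : ℤ) :
    Nonempty ((HomologicalComplex₂.total (((c ⋙ ComplexShape.embeddingUpNat.extendFunctor AddCommGrpCat.{v}).mapHomologicalComplex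
      (ComplexShape.up ℤ)).obj ((G.mapHomologicalComplex (ComplexShape.up ℤ)).obj K))
        (ComplexShape.up ℤ)).homology n ≃+
      ((DerivedCategory.singleFunctor A 0).obj T ⟶ (DerivedCategory.Q.obj K)⟦n⟧)) := by
  obtain ⟨I, φ, hφ, hI, hinj, haI⟩ := exists_resolution K a ha
  have := Tot.isIso_toHomComplex N K a ha
  let e := HomologicalComplex₂.total.mapIso (dblIso G c N θ K) (ComplexShape.up ℤ) ≪≫ asIso (Tot.toHomComplex N K)
  obtain ⟨e'⟩ := Compare.nonempty_classEquiv (NZ N) 0 (isZero_NZ N) φ a ha haI h
    (fun p i q => by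
      have := hinj i
      exact subsingleton_of_forall_eq 0 fun x => Ext.eq_zero_of_injective x) n
  exact ⟨(((HomologicalComplex.homologyFunctor _ _ n).mapIso e).addCommGroupIsoToAddEquiv.trans
    (homologyAddEquiv (NZ N) K n)).trans (e'.trans (eH N π φ n))⟩

end

end Groth.Agent.HyperCech.Main
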