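import Groth.Agent.HyperCech.Compare
import Groth.Agent.HyperCech.CechNat
import Groth.Prelude.Def_CechTot
import Groth.Prelude.Def_CohB1

/-!
# The free Čech resolution of a family of opens
-/

universe u

open CategoryTheory CategoryTheory.Limits Opposite Simplicial AlgebraicTopology TopologicalSpace
open CategoryTheory.Abelian

namespace Groth.Agent.HyperCech.Nerve

open SiteCoh

variable {X : TopCat.{u}} {ι : Type u} (U : ι → Opens X)

local notation "J" => Opens.grothendieckTopology X

/-- The family as a family over the whole space. -/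
noncomputable abbrev Y : ι → Over (⊤ : Opens X) := fun i => Over.mk (homOfLE le_top : U i ⟶ ⊤)

theorem gen_mem (hcov : iSup U = ⊤) : Cech.gen (Y U) ∈ J (⊤ : Opens X) := by
  intro x _
  obtain ⟨i, hi⟩ := Opens.mem_iSup.1 (show x ∈ iSup U by rw [hcov]; trivial)
  exact ⟨U i, homOfLE le_top, (Sieve.mem_ofArrows_iff _ _ _).2 ⟨i, 𝟙 _, Subsingleton.elim _ _⟩, hi⟩

/-- An intersection of members. -/
noncomputable abbrev inter (n : ℕ) (k : Fin (n + 1) → ι) : Opens X := ∏ᶜ fun t => U (k t)

/-- The same intersection, formed over `⊤`. -/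
noncomputable abbrev interY (n : ℕ) (k : Fin (n + 1) → ι) : Over (⊤ : Opens X) :=
  ∏ᶜ fun t => Y U (k t)

theorem inter_le_iInf (n : ℕ) (k : Fin (n + 1) → ι) : (interY U n k).left = ⨅ t, U (k t) :=
  le_antisymm (le_iInf fun t => leOfHom (Pi.π (fun t => Y U (k t)) t).left)
    (leOfHom (Pi.lift (fun t => Over.homMk (homOfLE (iInf_le (fun t => U (k t)) t)) (Subsingleton.elim _ _)) :
      Over.mk (homOfLE le_top : (⨅ t, U (k t)) ⟶ ⊤) ⟶ interY U n k).left)

theorem left_le (n : ℕ) (k : Fin (n + 1) → ι) : (interY U n k).left ≤ inter U n k :=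
  leOfHom (Pi.lift fun t => (Pi.π (fun t => Y U (k t)) t).left)

theorem le_left (n : ℕ) (k : Fin (n + 1) → ι) : inter U n k ≤ (interY U n k).left := by
  rw [inter_le_iInf]
  exact le_iInf fun t => leOfHom (Pi.π (fun t => U (k t)) t)

theorem map_eq (G : (Opens X)ᵒᵖ ⥤ AddCommGrpCat.{u}) {V W : (Opens X)ᵒᵖ} (f g : V ⟶ W) :
    G.map f = G.map g :=
  congrArg G.map (Quiver.Hom.unop_inj (Subsingleton.elim _ _))

theorem map_map_eq (G : (Opens X)ᵒᵖ ⥤ AddCommGrpCat.{u}) {V W W' Z : (Opens X)ᵒᵖ} (f : V ⟶ W)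
    (g : W ⟶ Z) (f' : V ⟶ W') (g' : W' ⟶ Z) : G.map f ≫ G.map g = G.map f' ≫ G.map g' := by
  rw [← G.map_comp, ← G.map_comp, map_eq G]

/-- The comparison of one product. -/
noncomputable def prodIso (G : (Opens X)ᵒᵖ ⥤ AddCommGrpCat.{u}) (n : ℕ) :
    (∏ᶜ fun k : Fin (n + 1) → ι => G.obj (op (inter U n k))) ≅
      ∏ᶜ fun k : Fin (n + 1) → ι => G.obj (op (interY U n k).left) :=
  Pi.mapIso fun k => G.mapIso (eqToIso (congrArg op (le_antisymm (le_left U n k) (left_le U n k))))

theorem prodIso_π (G : (Opens X)ᵒᵖ ⥤ AddCommGrpCat.{u}) (n : ℕ) (k : Fin (n + 1) → ι) :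
    (prodIso U G n).hom ≫ Pi.π (fun k : Fin (n + 1) → ι => G.obj (op (interY U n k).left)) k =
      Pi.π (fun k : Fin (n + 1) → ι => G.obj (op (inter U n k))) k ≫
        G.map (eqToHom (congrArg op (le_antisymm (le_left U n k) (left_le U n k)))) := by
  simp [prodIso]

theorem prodIso_lift (G : (Opens X)ᵒᵖ ⥤ AddCommGrpCat.{u}) {n m : ℕ}
    (a : (Fin (m + 1) → ι) → Fin (n + 1) → ι) (φ : ∀ k, inter U m k ⟶ inter U n (a k))
    (φ' : ∀ k, (interY U m k).left ⟶ (interY U n (a k)).left) :
    (Pi.lift fun k => Pi.π (fun k : Fin (n + 1) → ι => G.obj (op (inter U n k))) (a k) ≫ G.map (φ k).op) ≫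
        (prodIso U G m).hom =
      (prodIso U G n).hom ≫ Pi.lift fun k =>
        Pi.π (fun k : Fin (n + 1) → ι => G.obj (op (interY U n k).left)) (a k) ≫ G.map (φ' k).op := by
  refine Pi.hom_ext _ _ fun k => ?_
  rw [Category.assoc, Category.assoc, prodIso_π, Pi.lift_π, Pi.lift_π_assoc, ← Category.assoc (prodIso U G n).hom,
    prodIso_π, Category.assoc, Category.assoc, map_map_eq G]

theorem prodIso_map {G G' : (Opens X)ᵒᵖ ⥤ AddCommGrpCat.{u}} (α : G ⟶ G') (n : ℕ) :
    (Limits.Pi.map fun k : Fin (n + 1) → ι => α.app (op (inter U n k))) ≫ (prodIso U G' n).hom =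
      (prodIso U G n).hom ≫ Limits.Pi.map fun k : Fin (n + 1) → ι => α.app (op (interY U n k).left) := by
  refine Pi.hom_ext _ _ fun k => ?_
  rw [Category.assoc, Category.assoc, prodIso_π, Pi.map_π, Pi.map_π_assoc, ← Category.assoc (prodIso U G n).hom,
    prodIso_π, Category.assoc, α.naturality]

/-- The natural isomorphism between the two Čech complexes. -/
noncomputable def cechIso : cechComplexFunctor (A := AddCommGrpCat.{u}) U ≅
    (Functor.whiskeringLeft _ _ _).obj (Over.forget (⊤ : Opens X)).op ⋙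
      cechComplexFunctor (A := AddCommGrpCat.{u}) (Y U) :=
  NatIso.ofComponents
    (fun G => (alternatingCofaceMapComplex _).mapIso
      (NatIso.ofComponents (fun n => prodIso U G n.len) fun {n m} f => prodIso_lift U G _ _ _))
    (fun {G G'} α => HomologicalComplex.hom_ext _ _ fun n => prodIso_map U α n)

/-- The free Čech complex. -/
noncomputable abbrev N : ChainComplex (CohTop.Ab X) ℕ := CechCover.cx (Y U) J

/-- `C^•(U, F) ≅ Hom(N, F)`, naturally in the sheaf `F`. -/
noncomputable def theta : sheafToPresheaf J AddCommGrpCat.{u} ⋙ cechComplexFunctor U ≅ HomRes.homCx (N U) :=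
  NatIso.ofComponents
    (fun F => (cechIso U).app F.obj ≪≫ Cech.cechComplexIso (Y U) J F)
    (fun {F G} g => by
      simp only [Iso.trans_hom, Iso.app_hom, Category.assoc]
      erw [← Category.assoc, (cechIso U).hom.naturality g.hom, Category.assoc, CechNat.cechComplexIso_natural (Y U) J g])

/-- The free Čech complex, cochain indexing. -/
noncomputable abbrev NZ : CochainComplex (CohTop.Ab X) ℤ := (N U).extend ComplexShape.embeddingDownNat

theorem isZero_NZ (p : ℤ) (hp : 0 < p) : IsZero ((NZ U).X p) :=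
  HomologicalComplex.isZero_extend_X _ _ p fun k => by simp; omega

/-- The augmentation. -/
noncomputable def augZ : NZ U ⟶
    (HomologicalComplex.single (CohTop.Ab X) (ComplexShape.up ℤ) 0).obj (CohCx.freeSheaf J (⊤ : Opens X)) :=
  HomologicalComplex.extendMap (CechCover.resolution (Y U) J) ComplexShape.embeddingDownNat ≫
    (HomologicalComplex.extendSingleIso ComplexShape.embeddingDownNat _ (0 : ℕ) 0 (by simp)).hom

theorem quasiIso_augZ (hcov : iSup U = ⊤) : QuasiIso (augZ U) := by
  have := CechCover.quasiIso_resolution (Y U) J (gen_mem U hcov)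
  have : QuasiIso (HomologicalComplex.extendMap (CechCover.resolution (Y U) J) ComplexShape.embeddingDownNat) :=
    (HomologicalComplex.quasiIso_extendMap_iff _ _).2 inferInstance
  exact inferInstanceAs (QuasiIso (_ ≫ _))

theorem subsingleton_ext_N (F : CohTop.Ab X)
    (h : ∀ (p : ℕ) (c : Fin (p + 1) → ι) (q : ℕ), Subsingleton (CohTop.HU F (q + 1) (iInf fun k => U (c k))))
    (n q : ℕ) : Subsingleton (Ext ((N U).X n) F (q + 1)) :=
  Cech.subsingleton_ext_of_bijective (A := Sheaf J AddCommGrpCat.{u}) (CechCover.summand (Y U) J n)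
    (CechCover.summand_bijective (Y U) J n) q F fun k q' => by
      have := h n k q'
      rw [← inter_le_iInf U n k] at this
      exact this

theorem subsingleton_ext_NZ (F : CohTop.Ab X)
    (h : ∀ (p : ℕ) (c : Fin (p + 1) → ι) (q : ℕ), Subsingleton (CohTop.HU F (q + 1) (iInf fun k => U (c k))))
    (p : ℤ) (q : ℕ) : Subsingleton (Ext ((NZ U).X p) F (q + 1)) := by
  by_cases hp : 0 < p
  · exact subsingleton_of_forall_eq 0 fun x => by
      rw [← x.mk₀_id_comp, show 𝟙 ((NZ U).X p) = 0 from (isZero_NZ U p hp).eq_of_src _ _, Ext.mk₀_zero, Ext.zero_comp]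
  · obtain ⟨k, rfl⟩ : ∃ k : ℕ, p = -(k : ℤ) := ⟨(-p).toNat, by omega⟩
    let e : (NZ U).X (-(k : ℤ)) ≅ (N U).X k := (N U).extendXIso ComplexShape.embeddingDownNat rfl
    have := subsingleton_ext_N U F h k q
    exact subsingleton_of_forall_eq 0 fun x => by
      rw [← x.mk₀_id_comp, ← e.hom_inv_id, ← Ext.mk₀_comp_mk₀, Ext.comp_assoc_of_second_deg_zero,
        Subsingleton.elim ((Ext.mk₀ e.inv).comp x (zero_add _)) 0, Ext.comp_zero]

end Groth.Agent.HyperCech.Nerve
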