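import Groth.Agent.HyperCech.Zq

/-!
# The Čech complex of a presheaf on elements, and the coefficient map
-/

universe u

open CategoryTheory CategoryTheory.Limits Opposite TopologicalSpace

namespace Groth.Agent.HyperCech.Phi

open SiteCoh

variable {X : TopCat.{u}} {ι : Type u} (U : ι → Opens X)

section Families

variable {κ : Type u} {F G H : κ → AddCommGrpCat.{u}} (f : ∀ k, F k ⟶ G k) (g : ∀ k, G k ⟶ H k)

theorem pi_apply (x : ↑(∏ᶜ F)) (k : κ) : Pi.π G k (Limits.Pi.map f x) = f k (Pi.π F k x) :=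
  ConcreteCategory.congr_hom (Pi.map_π f k) x

theorem pi_surjective (hf : ∀ k, Function.Surjective (f k)) : Function.Surjective (Limits.Pi.map f) := fun y => by
  choose x hx using fun k => hf k (Pi.π G k y)
  refine ⟨(Concrete.productEquiv F).symm x, (Concrete.productEquiv G).injective (funext fun k => ?_)⟩
  rw [Concrete.productEquiv_apply_apply, Concrete.productEquiv_apply_apply, pi_apply,
    Concrete.productEquiv_symm_apply_π, hx]

theorem pi_exact (hex : ∀ k (x : G k), g k x = 0 → ∃ y, f k y = x) (x : ↑(∏ᶜ G))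
    (hx : Limits.Pi.map g x = 0) : ∃ y, Limits.Pi.map f y = x := by
  choose y hy using fun k => hex k (Pi.π G k x) (by rw [← pi_apply g x k, hx, map_zero])
  refine ⟨(Concrete.productEquiv F).symm y, (Concrete.productEquiv G).injective (funext fun k => ?_)⟩
  rw [Concrete.productEquiv_apply_apply, Concrete.productEquiv_apply_apply, pi_apply,
    Concrete.productEquiv_symm_apply_π, hy]

theorem pi_zero (h0 : ∀ k (y : F k), g k (f k y) = 0) (x : ↑(∏ᶜ F)) :
    Limits.Pi.map g (Limits.Pi.map f x) = 0 := by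
  refine (Concrete.productEquiv H).injective (funext fun k => ?_)
  rw [Concrete.productEquiv_apply_apply, Concrete.productEquiv_apply_apply, pi_apply, pi_apply, h0, map_zero]

end Families

section Presheaf

variable {F G H : (Opens X)ᵒᵖ ⥤ AddCommGrpCat.{u}} (ρ : F ⟶ G) (η : G ⟶ H) (j : ℕ)

theorem map_f : ((cechComplexFunctor U).map η).f j =
    Limits.Pi.map fun k : Fin (j + 1) → ι => η.app (op (Nerve.inter U j k)) := rfl

theorem map_surjective (hη : ∀ V, Function.Surjective (η.app V)) :
    Function.Surjective (((cechComplexFunctor U).map η).f j) :=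
  pi_surjective (fun k => η.app (op (Nerve.inter U j k))) fun k => hη _

theorem map_exact (hex : ∀ V (x : G.obj V), η.app V x = 0 → ∃ y, ρ.app V y = x)
    (x : ((cechComplexFunctor U).obj G).X j) (hx : ((cechComplexFunctor U).map η).f j x = 0) :
    ∃ y, ((cechComplexFunctor U).map ρ).f j y = x :=
  pi_exact (fun k => ρ.app (op (Nerve.inter U j k))) (fun k => η.app (op (Nerve.inter U j k)))
    (fun k => hex _) x hx

theorem map_map_eq_zero (h0 : ∀ V (y : F.obj V), η.app V (ρ.app V y) = 0)
    (x : ((cechComplexFunctor U).obj F).X j) :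
    ((cechComplexFunctor U).map η).f j (((cechComplexFunctor U).map ρ).f j x) = 0 :=
  pi_zero (fun k => ρ.app (op (Nerve.inter U j k))) (fun k => η.app (op (Nerve.inter U j k)))
    (fun k => h0 _) x

end Presheaf

section Coefficient

variable {Z W : CohTop.Ab X} (ρ : W ⟶ Z) {H : (Opens X)ᵒᵖ ⥤ AddCommGrpCat.{u}} (η : Z.obj ⟶ H)

/-- The coefficient map on morphisms out of the free Čech complex. -/
noncomputable def Φ (j : ℕ) : ((Nerve.N (X := X) U).X j ⟶ Z) →+ ((cechComplexFunctor U).obj H).X j :=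
  (((Nerve.theta (X := X) U).app Z).inv.f j ≫ ((cechComplexFunctor U).map η).f j).hom

theorem Φ_d (j : ℕ) (f : (Nerve.N (X := X) U).X j ⟶ Z) :
    ((cechComplexFunctor U).obj H).d j (j + 1) (Φ U η j f) =
      Φ U η (j + 1) ((Nerve.N (X := X) U).d (j + 1) j ≫ f) := by
  have h := ConcreteCategory.congr_hom
    ((((Nerve.theta (X := X) U).app Z).inv ≫ (cechComplexFunctor U).map η).comm j (j + 1)) f
  refine h.trans ?_
  exact congrArg (fun g => Φ U η (j + 1) g) (HomRes.homCx_d_apply (Nerve.N (X := X) U) Z j f)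

theorem Φ_surjective (hη : ∀ V, Function.Surjective (η.app V)) (j : ℕ) : Function.Surjective (Φ U η j) :=
  (map_surjective U η j hη).comp
    (ConcreteCategory.bijective_of_isIso (((Nerve.theta (X := X) U).app Z).inv.f j)).2

theorem Φ_eq_zero_iff (h0 : ∀ V (y : W.obj.obj V), η.app V (ρ.hom.app V y) = 0)
    (hex : ∀ V (x : Z.obj.obj V), η.app V x = 0 → ∃ y, ρ.hom.app V y = x)
    (j : ℕ) (f : (Nerve.N (X := X) U).X j ⟶ Z) :
    Φ U η j f = 0 ↔ ∃ β : (Nerve.N (X := X) U).X j ⟶ W, β ≫ ρ = f := by
  have hn : ∀ β : (Nerve.N (X := X) U).X j ⟶ W,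
      ((Nerve.theta (X := X) U).app Z).inv.f j (β ≫ ρ) =
        ((cechComplexFunctor U).map ρ.hom).f j (((Nerve.theta (X := X) U).app W).inv.f j β) := fun β =>
    ConcreteCategory.congr_hom (HomologicalComplex.congr_hom ((Nerve.theta (X := X) U).inv.naturality ρ) j) β
  constructor
  · intro h
    obtain ⟨y, hy⟩ := map_exact U ρ.hom η j hex _ h
    obtain ⟨β, rfl⟩ := (ConcreteCategory.bijective_of_isIso (((Nerve.theta (X := X) U).app W).inv.f j)).2 y
    exact ⟨β, (ConcreteCategory.bijective_of_isIso (((Nerve.theta (X := X) U).app Z).inv.f j)).1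
      ((hn β).trans hy)⟩
  · rintro ⟨β, rfl⟩
    exact (congrArg (((cechComplexFunctor U).map η).f j) (hn β)).trans (map_map_eq_zero U ρ.hom η j h0 _)

end Coefficient

end Groth.Agent.HyperCech.Phi
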