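import Groth.Agent.HyperCech.Filt

/-!
# Restriction to the members and classes of cycles
-/

universe w v u

open CategoryTheory CategoryTheory.Limits CochainComplex.HomComplex

namespace Groth.Agent.HyperCech.Rest

variable {A : Type u} [Category.{v} A] [Abelian A]

section

variable (N : ChainComplex A ℕ) {T' : A} (s : T' ⟶ N.X 0)

/-- The map from an object mapping to the degree zero term. -/
noncomputable def sk : Main.S T' ⟶ Main.NZ N :=
  HomologicalComplex.mkHomFromSingle (K := Main.NZ N) (j := (0 : ℤ)) (s ≫ (Filt.e N 0).inv)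
    (fun k (hk : (0 : ℤ) + 1 = k) => (Tot.isZero_NZ N k (by omega)).eq_of_tgt _ _)

theorem sk_f : (sk N s).f 0 = (HomologicalComplex.singleObjXSelf (ComplexShape.up ℤ) 0 T').hom ≫ s ≫ (Filt.e N 0).inv :=
  HomologicalComplex.mkHomFromSingle_f _ _

variable {T : A} (π : N ⟶ (ChainComplex.single₀ A).obj T)

theorem sk_augS : sk N s ≫ Main.augS N π = (CochainComplex.singleFunctor A 0).map (s ≫ SiteCoh.HomRes.aug π) := by
  refine HomologicalComplex.from_single_hom_ext ?_
  have h : (Main.augS N π).f 0 = (Filt.e N 0).hom ≫ SiteCoh.HomRes.aug π ≫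
      (HomologicalComplex.singleObjXSelf (ComplexShape.up ℤ) 0 T).inv := by
    show (HomologicalComplex.extendMap π ComplexShape.embeddingDownNat).f 0 ≫
      (HomologicalComplex.extendSingleIso ComplexShape.embeddingDownNat _ (0 : ℕ) 0 (by simp)).hom.f 0 = _
    rw [HomologicalComplex.extendMap_f π ComplexShape.embeddingDownNat (show ComplexShape.embeddingDownNat.f 0 = (0 : ℤ) from rfl),
      HomologicalComplex.extendSingleIso_hom_f]
    simp only [Category.assoc, Iso.inv_hom_id_assoc]
    rw [ChainComplex.single₀ObjXSelf, Iso.refl_hom]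
    erw [Category.id_comp]
    rfl
  rw [HomologicalComplex.comp_f, h]
  refine (congrArg (fun f => f ≫ _) (sk_f N s)).trans ?_
  show _ = ((HomologicalComplex.single A (ComplexShape.up ℤ) 0).map (s ≫ SiteCoh.HomRes.aug π)).f 0
  rw [HomologicalComplex.single_map_f_self]
  exact (Category.assoc _ _ _).trans (congrArg _ ((Category.assoc _ _ _).trans
    ((congrArg _ ((Filt.e N 0).inv_hom_id_assoc _)).trans (Category.assoc _ _ _).symm)))

variable [QuasiIso π] [HasDerivedCategory.{w} A] {K I : CochainComplex A ℤ} (φ : K ⟶ I)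
  [QuasiIso φ] [I.IsKInjective] (n : ℤ)

/-- Classes of cocycles on the resolution. -/
noncomputable def cl : Cocycle (Main.NZ N) I n →+
    ((DerivedCategory.singleFunctor A 0).obj T ⟶ (DerivedCategory.Q.obj K)⟦n⟧) :=
  (Main.eH N π φ n).toAddMonoidHom.comp (CohomologyClass.mkAddMonoidHom (Main.NZ N) I n)

theorem cl_surjective : Function.Surjective (cl N π φ n) := fun x => by
  obtain ⟨z, hz⟩ := ((Main.eH N π φ n).symm x).mk_surjective
  exact ⟨z, (congrArg (Main.eH N π φ n) hz).trans (AddEquiv.apply_symm_apply _ _)⟩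

theorem cl_eq_zero_iff (z : Cocycle (Main.NZ N) I n) :
    cl N π φ n z = 0 ↔ z ∈ coboundaries (Main.NZ N) I n :=
  (Main.eH N π φ n).map_eq_zero_iff.trans (CohomologyClass.mk_eq_zero_iff z)

theorem restr_eq_zero_iff (q' : ℤ) (hq' : q' + 1 = n) (z : Cocycle (Main.NZ N) I n) :
    (DerivedCategory.singleFunctor A 0).map (s ≫ SiteCoh.HomRes.aug π) ≫ cl N π φ n z = 0 ↔
      ∃ f : T' ⟶ I.X q', f ≫ I.d q' n = s ≫ Filt.cp N I n 0 n (by simp) z := by
  have hy : (DerivedCategory.singleFunctor A 0).map (s ≫ SiteCoh.HomRes.aug π) ≫ cl N π φ n z =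
      Main.hdu φ n T' (CohomologyClass.mk (z.precomp (sk N s))) := by
    obtain ⟨y, hy⟩ := (Main.augPre_bijective N π (I := I) n).2 (CohomologyClass.mk z)
    obtain ⟨y', rfl⟩ := y.mk_surjective
    show _ ≫ Main.eH N π φ n (CohomologyClass.mk z) = _
    rw [← hy, Main.eH_augPre, ← Main.hdu_natural]
    congr 1
    rw [Derived.pre_mk, ← sk_augS N s π, ← Derived.pre_mk (Main.NZ N) I n (sk N s) z, ← hy]
    show CohomologyClass.mk _ = CohomologyClass.mk _
    congr 1
    exact Cocycle.ext (by simp [Cocycle.precomp])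
  rw [hy, map_eq_zero_iff _ (Main.hdu_bijective φ n T').1, CohomologyClass.mk_eq_zero_iff]
  obtain ⟨f, hf, he⟩ := Cocycle.fromSingleMk_surjective (z.precomp (sk N s)) n (zero_add n) (n + 1) rfl
  rw [← he, Cocycle.fromSingleMk_mem_coboundaries_iff f (zero_add n) (n + 1) rfl hf q' hq']
  have hfe : f = s ≫ Filt.cp N I n 0 n (by simp) z := by
    have h0 := Cochain.congr_v (congrArg Subtype.val he) 0 n (zero_add n)
    rw [Cocycle.fromSingleMk_coe, Cochain.fromSingleMk_v, Cocycle.precomp_coe, Cochain.zero_cochain_comp_v,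
      Cochain.ofHom_v, sk_f] at h0
    have h1 := (cancel_epi (HomologicalComplex.singleObjXSelf (ComplexShape.up ℤ) 0 T').hom).1
      (h0.trans (Category.assoc _ _ _))
    exact h1.trans (Category.assoc _ _ _)
  rw [hfe]

include φ in
/-- The first step of the filtration consists of the classes killed by all the restrictions. -/
theorem G_one_eq {κ : Type*} {Ts : κ → A} (ss : ∀ k, Ts k ⟶ N.X 0)
    (hss : ∀ F : A, Function.Bijective fun (f : N.X 0 ⟶ F) k => ss k ≫ f)
    (x : (DerivedCategory.singleFunctor A 0).obj T ⟶ (DerivedCategory.Q.obj K)⟦n⟧) :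
    x ∈ Filt.G N I n (cl N π φ n) 1 ↔
      ∀ k, (DerivedCategory.singleFunctor A 0).map (ss k ≫ SiteCoh.HomRes.aug π) ≫ x = 0 := by
  obtain ⟨z, rfl⟩ := cl_surjective N π φ n x
  rw [Filt.mem_G_one_iff N I n (cl N π φ n) (cl_eq_zero_iff N π φ n) n (n - 1) (by simp) (by omega)]
  simp only [fun k => restr_eq_zero_iff N (ss k) π φ n (n - 1) (by omega) z]
  constructor
  · rintro ⟨β, hβ⟩ k
    exact ⟨ss k ≫ β, by rw [Category.assoc, hβ]⟩
  · intro h
    choose f hf using h
    obtain ⟨β, hβ⟩ := (hss _).2 f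
    refine ⟨β, (hss _).1 (funext fun k => ?_)⟩
    show ss k ≫ β ≫ _ = _
    rw [← Category.assoc, show ss k ≫ β = f k from congrFun hβ k, hf]

end

section

variable [HasDerivedCategory.{w} A] {K I : CochainComplex A ℤ} (φ : K ⟶ I) [QuasiIso φ] (q : ℤ) (T : A)

/-- The class of a cycle valued morphism. -/
noncomputable def eta : (T ⟶ I.cycles q) →+
    ((DerivedCategory.singleFunctor A 0).obj T ⟶ (DerivedCategory.Q.obj K)⟦q⟧) :=
  (Main.hdu φ q T).comp (AddMonoidHom.mk'
    (fun f => CohomologyClass.mk (Cocycle.fromSingleMk (f ≫ I.iCycles q) (zero_add q) (q + 1) rfl (by simp)))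
    (fun f g => by
      refine Eq.trans ?_ (map_add (CohomologyClass.mkAddMonoidHom (Main.S T) I q) _ _)
      refine congrArg CohomologyClass.mk ?_
      rw [← Cocycle.fromSingleMk_add]
      congr 1
      exact Preadditive.add_comp _ _ _ _ _ _))

theorem eta_natural {T' : A} (g : T' ⟶ T) (f : T ⟶ I.cycles q) :
    eta φ q T' (g ≫ f) = (DerivedCategory.singleFunctor A 0).map g ≫ eta φ q T f := by
  refine Eq.trans ?_ (Main.hdu_natural φ q g _)
  refine congrArg (Main.hdu φ q T') ?_
  show CohomologyClass.mk _ = Derived.pre (Main.S T) I q _ (CohomologyClass.mk _)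
  rw [Derived.pre_mk]
  refine congrArg CohomologyClass.mk ?_
  rw [← Cocycle.fromSingleMk_precomp g (f ≫ I.iCycles q) (zero_add q) (q + 1) rfl (by simp)]
  congr 1
  exact Category.assoc _ _ _

theorem eta_surjective [I.IsKInjective] : Function.Surjective (eta φ q T) := fun x => by
  obtain ⟨y, rfl⟩ := (Main.hdu_bijective φ q T).2 x
  obtain ⟨z, rfl⟩ := y.mk_surjective
  obtain ⟨f, hf, rfl⟩ := Cocycle.fromSingleMk_surjective z q (zero_add q) (q + 1) rfl
  refine ⟨I.liftCycles f (q + 1) (by simp) hf, congrArg (fun c => Main.hdu φ q T (CohomologyClass.mk c)) ?_⟩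
  congr 1
  exact I.liftCycles_i _ _ _ _

theorem eta_eq_zero_iff [I.IsKInjective] (f : T ⟶ I.cycles q) :
    eta φ q T f = 0 ↔ ∃ g : T ⟶ I.X (q - 1), g ≫ I.toCycles (q - 1) q = f := by
  refine ((map_eq_zero_iff _ (Main.hdu_bijective φ q T).1).trans ((CohomologyClass.mk_eq_zero_iff _).trans
    (Cocycle.fromSingleMk_mem_coboundaries_iff (f ≫ I.iCycles q) (zero_add q) (q + 1) rfl (by simp) (q - 1)
      (by omega)))).trans ?_
  refine exists_congr fun g => ?_
  rw [← cancel_mono (I.iCycles q), Category.assoc, HomologicalComplex.toCycles_i]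

end

end Groth.Agent.HyperCech.Rest
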