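import Groth.Agent.SiteCoh.HomRes
import Mathlib.Algebra.Homology.HomotopyCategory.HomComplexCohomology
import Mathlib.Algebra.Homology.TotalComplex
import Mathlib.Algebra.Homology.Embedding.Extend
import Mathlib.Data.Int.Interval

/-!
# The total complex of `Hom(N, K^q)` is the Hom complex
-/

universe v u

open CategoryTheory CategoryTheory.Limits CochainComplex.HomComplex

namespace Groth.Agent.HyperCech.Tot

open SiteCoh

variable {A : Type u} [Category.{v} A] [Abelian A] (N : ChainComplex A ℕ) (K : CochainComplex A ℤ)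

/-- `F ↦ Hom(N, F)` indexed by integers. -/
noncomputable abbrev homF : A ⥤ CochainComplex AddCommGrpCat.{v} ℤ :=
  HomRes.homCx N ⋙ ComplexShape.embeddingUpNat.extendFunctor AddCommGrpCat.{v}

/-- `Hom(N, F)` indexed by integers. -/
noncomputable abbrev E (F : A) : CochainComplex AddCommGrpCat.{v} ℤ :=
  ((HomRes.homCx N).obj F).extend ComplexShape.embeddingUpNat

/-- The map induced by a morphism. -/
noncomputable abbrev EMap {F G : A} (g : F ⟶ G) : E N F ⟶ E N G :=
  HomologicalComplex.extendMap ((HomRes.homCx N).map g) ComplexShape.embeddingUpNat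

/-- The double complex. -/
noncomputable abbrev dbl : HomologicalComplex₂ AddCommGrpCat.{v} (ComplexShape.up ℤ) (ComplexShape.up ℤ) where
  X q := E N (K.X q)
  d q q' := EMap N (K.d q q')
  shape := (((homF N).mapHomologicalComplex (ComplexShape.up ℤ)).obj K).shape
  d_comp_d' := (((homF N).mapHomologicalComplex (ComplexShape.up ℤ)).obj K).d_comp_d'

/-- The double complex as a mapped complex. -/
noncomputable def dblIso : ((homF N).mapHomologicalComplex (ComplexShape.up ℤ)).obj K ≅ dbl N K :=
  Iso.refl _

local notation "NZ" => HomologicalComplex.extend N ComplexShape.embeddingDownNat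

/-- The term in nonnegative inner degree. -/
noncomputable def eK (F : A) (k : ℕ) : (E N F).X (k : ℤ) →+ ((NZ).X (-(k : ℤ)) ⟶ F) :=
  (Preadditive.leftComp F (N.extendXIso ComplexShape.embeddingDownNat (show _ = -(k : ℤ) from rfl)).hom).comp
    ((((HomRes.homCx N).obj F).extendXIso ComplexShape.embeddingUpNat (show _ = (k : ℤ) from rfl)).hom.hom)

theorem eK_bijective (F : A) (k : ℕ) : Function.Bijective (eK N F k) := by
  have h1 : Function.Bijective ((((HomRes.homCx N).obj F).extendXIso ComplexShape.embeddingUpNat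
      (show _ = (k : ℤ) from rfl)).hom.hom) :=
    ConcreteCategory.bijective_of_isIso
      (((HomRes.homCx N).obj F).extendXIso ComplexShape.embeddingUpNat (show _ = (k : ℤ) from rfl)).hom
  let i := N.extendXIso ComplexShape.embeddingDownNat (show _ = -(k : ℤ) from rfl)
  have h2 : Function.Bijective (fun f : N.X k ⟶ F => i.hom ≫ f) :=
    ⟨fun a b => (cancel_epi i.hom).1, fun g => ⟨i.inv ≫ g, i.hom_inv_id_assoc g⟩⟩
  exact h2.comp h1

/-- The term in any inner degree, as morphisms out of `N`. -/
noncomputable def eX (F : A) : ∀ p : ℤ, (E N F).X p →+ ((NZ).X (-p) ⟶ F)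
  | Int.ofNat k => eK N F k
  | Int.negSucc _ => 0

theorem isZero_homF (F : A) (p : ℤ) (hp : p < 0) : IsZero ((E N F).X p) :=
  HomologicalComplex.isZero_extend_X _ _ p fun k => by simp; omega

theorem isZero_NZ (p : ℤ) (hp : 0 < p) : IsZero ((NZ).X p) :=
  HomologicalComplex.isZero_extend_X _ _ p fun k => by simp; omega

theorem eX_bijective (F : A) (p : ℤ) : Function.Bijective (eX N F p) := by
  cases p with
  | ofNat k => exact eK_bijective N F k
  | negSucc k =>
    have := AddCommGrpCat.subsingleton_of_isZero (isZero_homF N F (Int.negSucc k) (Int.negSucc_lt_zero k))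
    refine ⟨fun a b _ => Subsingleton.elim a b, fun f => ⟨0, ?_⟩⟩
    exact (isZero_NZ N _ (by omega)).eq_of_src _ _

theorem eX_d (F : A) (p p' : ℤ) (hp : p + 1 = p') (x : (E N F).X p) :
    eX N F p' ((E N F).d p p' x) = (NZ).d (-p') (-p) ≫ eX N F p x := by
  cases p with
  | negSucc k =>
    have := AddCommGrpCat.subsingleton_of_isZero (isZero_homF N F (Int.negSucc k) (Int.negSucc_lt_zero k))
    rw [Subsingleton.elim x 0, map_zero, map_zero, map_zero, comp_zero]
  | ofNat k =>
    obtain rfl : p' = Int.ofNat (k + 1) := by simpa using hp.symm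
    show eK N F (k + 1) ((E N F).d (k : ℤ) ((k + 1 : ℕ) : ℤ) x) =
      (NZ).d (-((k + 1 : ℕ) : ℤ)) (-(k : ℤ)) ≫ eK N F k x
    simp only [eK]
    rw [show (E N F).d (k : ℤ) ((k + 1 : ℕ) : ℤ) = _ from
        HomologicalComplex.extend_d_eq ((HomRes.homCx N).obj F) ComplexShape.embeddingUpNat
          (show _ = (k : ℤ) from rfl) (show _ = ((k + 1 : ℕ) : ℤ) from rfl),
      HomologicalComplex.extend_d_eq N ComplexShape.embeddingDownNat
          (show _ = -((k + 1 : ℕ) : ℤ) from rfl) (show _ = -(k : ℤ) from rfl)]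
    simp only [AddCommGrpCat.hom_comp, AddMonoidHom.comp_apply]
    erw [AddMonoidHom.comp_apply, Iso.inv_hom_id_apply]
    show (N.extendXIso _ _).hom ≫ ((HomRes.homCx N).obj F).d k (k + 1) _ = _
    refine (congrArg (CategoryStruct.comp _) (HomRes.homCx_d_apply N F k _)).trans ?_
    change _ = (_ ≫ _ ≫ (N.extendXIso ComplexShape.embeddingDownNat (show _ = -(k : ℤ) from rfl)).inv) ≫
      (N.extendXIso ComplexShape.embeddingDownNat (show _ = -(k : ℤ) from rfl)).hom ≫ _
    rw [Category.assoc, Category.assoc, Iso.inv_hom_id_assoc]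
    rfl

theorem eX_map {F G : A} (g : F ⟶ G) (p : ℤ) (x : (E N F).X p) :
    eX N G p ((EMap N g).f p x) = eX N F p x ≫ g := by
  cases p with
  | negSucc k =>
    exact (isZero_NZ N _ (by omega)).eq_of_src _ _
  | ofNat k =>
    show eK N G k ((EMap N g).f (k : ℤ) x) = eK N F k x ≫ g
    simp only [eK]
    rw [show (EMap N g).f (k : ℤ) = _ from
      HomologicalComplex.extendMap_f ((HomRes.homCx N).map g) ComplexShape.embeddingUpNat (show _ = (k : ℤ) from rfl)]
    simp only [AddCommGrpCat.hom_comp, AddMonoidHom.comp_apply]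
    erw [AddMonoidHom.comp_apply, Iso.inv_hom_id_apply]
    exact (Category.assoc _ _ _).symm

/-- The sign. -/
def s (p : ℤ) : ℤˣ := ((p * (p + 1)) / 2).negOnePow

theorem s_succ (p : ℤ) : s (p + 1) = (p + 1).negOnePow * s p := by
  rw [s, s, ← Int.negOnePow_add, show (p + 1) * (p + 1 + 1) = p * (p + 1) + 2 * (p + 1) by ring,
    Int.add_mul_ediv_left _ _ two_ne_zero, add_comm]

/-- The cochain of an element in bidegree `(q, p)`. -/
noncomputable def cch (q p n : ℤ) : ((dbl N K).X q).X p →+ Cochain NZ K n where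
  toFun x := s p • Cochain.single (eX N (K.X q) p x) n
  map_zero' := by rw [map_zero, Cochain.single_zero, smul_zero]
  map_add' x y := by
    rw [map_add, ← smul_add]
    congr 1
    refine Cochain.ext _ _ fun a b hab => ?_
    rw [Cochain.add_v]
    by_cases h : a = -p ∧ b = q
    · obtain ⟨rfl, rfl⟩ := h
      rw [Cochain.single_v, Cochain.single_v, Cochain.single_v]
    · rw [not_and_or] at h
      rcases h with h | h
      · simp only [Cochain.single_v_eq_zero _ _ _ _ _ h, add_zero]
      · simp only [Cochain.single_v_eq_zero' _ _ _ _ _ h, add_zero]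

theorem single_smul {p q : ℤ} (f : (NZ).X p ⟶ K.X q) (u : ℤˣ) (n : ℤ) :
    Cochain.single (u • f) n = u • Cochain.single f n := by
  refine Cochain.ext _ _ fun a b hab => ?_
  rw [Cochain.units_smul_v]
  by_cases h : a = p ∧ b = q
  · obtain ⟨rfl, rfl⟩ := h
    rw [Cochain.single_v, Cochain.single_v]
  · rw [not_and_or] at h
    rcases h with h | h
    · simp only [Cochain.single_v_eq_zero _ _ _ _ _ h, smul_zero]
    · simp only [Cochain.single_v_eq_zero' _ _ _ _ _ h, smul_zero]

/-- The component, additively. -/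
def vHom {L M : CochainComplex A ℤ} {n p q : ℤ} (h : p + n = q) : Cochain L M n →+ (L.X p ⟶ M.X q) :=
  AddMonoidHom.mk' (fun z => z.v p q h) fun z w => Cochain.add_v z w p q h

theorem vHom_apply {L M : CochainComplex A ℤ} {n p q : ℤ} (h : p + n = q) (z : Cochain L M n) :
    vHom h z = z.v p q h := rfl

/-- The comparison in a degree. -/
noncomputable def comp (n : ℤ) : ((dbl N K).total (ComplexShape.up ℤ)).X n ⟶ (CochainComplex.HomComplex NZ K).X n :=
  (dbl N K).totalDesc fun q p _ => AddCommGrpCat.ofHom (cch N K q p n)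

theorem comp_ι (q p n : ℤ) (h : ComplexShape.π (ComplexShape.up ℤ) (ComplexShape.up ℤ) (ComplexShape.up ℤ) (q, p) = n)
    (x : ((dbl N K).X q).X p) :
    comp N K n ((dbl N K).ιTotal (ComplexShape.up ℤ) q p n h x) = cch N K q p n x :=
  ConcreteCategory.congr_hom ((dbl N K).ι_totalDesc (c₁₂ := ComplexShape.up ℤ) (i₁₂ := n)
    (fun q p _ => AddCommGrpCat.ofHom (cch N K q p n)) q p h) x

theorem comp_d (n m : ℤ) (hm : n + 1 = m) :
    comp N K n ≫ (CochainComplex.HomComplex NZ K).d n m = ((dbl N K).total (ComplexShape.up ℤ)).d n m ≫ comp N K m := by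
  refine HomologicalComplex₂.total.hom_ext _ fun q p h => ?_
  ext x
  show δ n m (comp N K n ((dbl N K).ιTotal _ q p n h x)) =
    comp N K m (((dbl N K).total (ComplexShape.up ℤ)).d n m ((dbl N K).ιTotal _ q p n h x))
  have hd : (dbl N K).ιTotal (ComplexShape.up ℤ) q p n h ≫ ((dbl N K).total (ComplexShape.up ℤ)).d n m =
      ((dbl N K).d q (q + 1)).f p ≫ (dbl N K).ιTotal (ComplexShape.up ℤ) (q + 1) p m (by
          simp only [ComplexShape.π_def] at *; omega) +
        q.negOnePow • (((dbl N K).X q).d p (p + 1) ≫ (dbl N K).ιTotal (ComplexShape.up ℤ) q (p + 1) m (by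
          simp only [ComplexShape.π_def] at *; omega)) := by
    rw [HomologicalComplex₂.total_d, Preadditive.comp_add, HomologicalComplex₂.ι_D₁, HomologicalComplex₂.ι_D₂,
      HomologicalComplex₂.d₁_eq _ _ (show (ComplexShape.up ℤ).Rel q (q + 1) from rfl),
      HomologicalComplex₂.d₂_eq _ _ _ (show (ComplexShape.up ℤ).Rel p (p + 1) from rfl)]
    · simp
    all_goals simp only [ComplexShape.π_def] at *; omega
  have hd' := ConcreteCategory.congr_hom hd x
  refine Eq.trans ?_ (congrArg (comp N K m) hd').symm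
  rw [comp_ι N K q p n h]
  simp only [AddCommGrpCat.hom_add, AddMonoidHom.add_apply, map_add, Units.smul_def, AddCommGrpCat.hom_zsmul,
    AddMonoidHom.zsmul_apply, map_zsmul, ConcreteCategory.comp_apply]
  erw [comp_ι, comp_ι]
  show δ n m (s p • Cochain.single (eX N (K.X q) p x) n) = s p • Cochain.single (eX N (K.X (q + 1)) p _) m +
    (q.negOnePow : ℤ) • (s (p + 1) • Cochain.single (eX N (K.X q) (p + 1) _) m)
  rw [δ_units_smul, Cochain.δ_single _ n m hm (-(p + 1)) (q + 1) (by omega) rfl, smul_add]
  congr 1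
  · congr 2
    exact (eX_map N (K.d q (q + 1)) p x).symm
  · erw [eX_d N (K.X q) p (p + 1) rfl x]
    rw [← Units.smul_def, smul_smul, smul_smul, s_succ, ← mul_assoc, ← Int.negOnePow_add, mul_comm]
    congr 2
    simp only [ComplexShape.π_def] at h
    congr 1
    omega

/-- The comparison as a map of complexes. -/
noncomputable def toHomComplex : (dbl N K).total (ComplexShape.up ℤ) ⟶ CochainComplex.HomComplex NZ K where
  f := comp N K
  comm' n m h := comp_d N K n m h

theorem comp_surjective (a : ℤ) (ha : ∀ i, i < a → IsZero (K.X i)) (n : ℤ) : Function.Surjective (comp N K n) := by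
  intro (v : Cochain NZ K n)
  choose x hx using fun q : ℤ => (eX_bijective N (K.X q) (n - q)).2
    (v.v (-(n - q)) q (by omega))
  refine ⟨∑ q ∈ Finset.Icc a n, (dbl N K).ιTotal (ComplexShape.up ℤ) q (n - q) n (by simp) (s (n - q) • x q), ?_⟩
  rw [map_sum]
  refine (Finset.sum_congr rfl fun q _ => comp_ι N K q (n - q) n (by simp) _).trans ?_
  show (∑ q ∈ Finset.Icc a n, cch N K q (n - q) n (s (n - q) • x q) : Cochain NZ K n) = v
  refine Cochain.ext _ _ fun p' q' hpq => ?_
  rw [← vHom_apply hpq, map_sum]
  have hterm : ∀ q, (cch N K q (n - q) n (s (n - q) • x q)).v p' q' hpq =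
      (Cochain.single (v.v (-(n - q)) q (by omega)) n).v p' q' hpq := fun q => by
    show (s (n - q) • Cochain.single (eX N (K.X q) (n - q) (s (n - q) • x q)) n).v p' q' hpq = _
    rw [Units.smul_def (s (n - q)) (x q), map_zsmul, hx, ← Units.smul_def, single_smul, smul_smul,
      Int.units_mul_self, one_smul]
  simp only [vHom_apply, hterm]
  by_cases hq : q' ∈ Finset.Icc a n
  · rw [Finset.sum_eq_single q' (fun q _ hne => Cochain.single_v_eq_zero' _ _ _ _ _ (Ne.symm hne))
      (fun h => (h hq).elim)]
    obtain rfl : p' = -(n - q') := by omega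
    rw [Cochain.single_v]
  · rw [Finset.sum_eq_zero fun q hq' => Cochain.single_v_eq_zero' _ _ _ _ _ (fun (h : q' = q) => hq (by rwa [h]))]
    rw [Finset.mem_Icc, not_and_or] at hq
    rcases hq with hq | hq
    · exact (ha q' (by omega)).eq_of_tgt _ _
    · exact (isZero_NZ N p' (by omega)).eq_of_src _ _

theorem comp_injective (a : ℤ) (ha : ∀ i, i < a → IsZero (K.X i)) (n : ℤ) : Function.Injective (comp N K n) := by
  let r : Cochain NZ K n →+ ((dbl N K).total (ComplexShape.up ℤ)).X n :=
    ∑ q ∈ Finset.Icc a n, (((dbl N K).ιTotal (ComplexShape.up ℤ) q (n - q) n (by simp)).hom.comp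
      ((s (n - q) : ℤ) • (AddEquiv.ofBijective _ (eX_bijective N (K.X q) (n - q))).symm.toAddMonoidHom)).comp
        (vHom (show -(n - q) + n = q by omega))
  have hr : comp N K n ≫ AddCommGrpCat.ofHom r = 𝟙 _ := by
    refine HomologicalComplex₂.total.hom_ext _ fun q p h => ?_
    ext x
    show r (comp N K n ((dbl N K).ιTotal _ q p n h x)) = (dbl N K).ιTotal _ q p n h x
    rw [comp_ι N K q p n h]
    simp only [ComplexShape.π_def] at h
    obtain rfl : p = n - q := by omega
    by_cases hq : q ∈ Finset.Icc a n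
    · simp only [r, AddMonoidHom.finsetSum_apply, AddMonoidHom.comp_apply, vHom_apply]
      rw [Finset.sum_eq_single q (fun q' _ hne => by
          rw [show (cch N K q (n - q) n x).v (-(n - q')) q' (by omega) =
            (s (n - q) • Cochain.single (eX N (K.X q) (n - q) x) n).v (-(n - q')) q' (by omega) from rfl,
            Cochain.units_smul_v, Cochain.single_v_eq_zero' _ _ _ _ _ hne, smul_zero, map_zero, map_zero])
        (fun h' => (h' hq).elim)]
      show ((dbl N K).ιTotal _ q (n - q) n _).hom ((s (n - q) : ℤ) • (AddEquiv.ofBijective _ _).symm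
        ((s (n - q) • Cochain.single (eX N (K.X q) (n - q) x) n).v _ _ _)) = _
      rw [Cochain.units_smul_v, Cochain.single_v, Units.smul_def]
      simp only [map_zsmul]
      rw [smul_smul, ← Units.val_mul,
        Int.units_mul_self, Units.val_one, one_smul]
      exact congrArg _ ((AddEquiv.ofBijective _ (eX_bijective N (K.X q) (n - q))).symm_apply_apply x)
    · have : Subsingleton (((dbl N K).X q).X (n - q)) := by
        rw [Finset.mem_Icc, not_and_or] at hq
        rcases hq with hq | hq
        · exact ⟨fun y z => (eX_bijective N (K.X q) (n - q)).1 ((ha q (by omega)).eq_of_tgt _ _)⟩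
        · exact AddCommGrpCat.subsingleton_of_isZero (isZero_homF N (K.X q) (n - q) (by omega))
      rw [Subsingleton.elim x 0, map_zero, map_zero, map_zero]
  intro x y hxy
  have := ConcreteCategory.congr_hom hr
  rw [← show AddCommGrpCat.ofHom r (comp N K n x) = x from this x,
    ← show AddCommGrpCat.ofHom r (comp N K n y) = y from this y, hxy]

theorem isIso_toHomComplex (a : ℤ) (ha : ∀ i, i < a → IsZero (K.X i)) : IsIso (toHomComplex N K) := by
  have : ∀ n, IsIso ((toHomComplex N K).f n) := fun n =>
    (ConcreteCategory.isIso_iff_bijective _).2 ⟨comp_injective N K a ha n, comp_surjective N K a ha n⟩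
  exact HomologicalComplex.Hom.isIso_of_components _

end Groth.Agent.HyperCech.Tot
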