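import Groth.Agent.HyperCech.Rest
import Groth.Agent.HyperCech.Nerve
import Groth.Prelude.Def_FreeSh

/-!
# Cycles and the presheaves of hypercohomology groups
-/

universe u

open CategoryTheory CategoryTheory.Limits Opposite TopologicalSpace

namespace Groth.Agent.HyperCech.Zq

variable {X : TopCat.{u}} [HasDerivedCategory.{u} (CohTop.Ab X)]
  {K I : CochainComplex (CohTop.Ab X) ℤ} (φ : K ⟶ I) [QuasiIso φ] (q : ℤ)

local notation "J" => Opens.grothendieckTopology X

/-- The class of a cycle section. -/
noncomputable def app (V : Opens X) :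
    (I.cycles q).obj.obj (op V) →+ CohCx.HDU ((DerivedCategory.Q (C := CohTop.Ab X)).obj K) q V :=
  (Rest.eta φ q (CohCx.freeSheaf J V)).comp (CohFree.homEquivSect J V (I.cycles q)).symm.toAddMonoidHom

/-- The comparison of the cycle sheaf with the hypercohomology presheaf. -/
noncomputable def etaNat :
    (I.cycles q).obj ⟶ CohCx.HDUPresheaf ((DerivedCategory.Q (C := CohTop.Ab X)).obj K) q where
  app V := AddCommGrpCat.ofHom (app φ q V.unop)
  naturality V W g := by
    ext s
    show app φ q W.unop ((I.cycles q).obj.map g s) =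
      (DerivedCategory.singleFunctor (CohTop.Ab X) 0).map (CohCx.freeSheafMap J g.unop) ≫ app φ q V.unop s
    refine Eq.trans ?_ (Rest.eta_natural φ q _ (CohCx.freeSheafMap J g.unop) _)
    refine congrArg (Rest.eta φ q _) ?_
    refine (AddEquiv.symm_apply_eq _).2 (Eq.symm ?_)
    refine Eq.trans (CohFree.evalGen_freeSheafMap_comp J g.unop (I.cycles q) (CohFree.ofSect J V.unop (I.cycles q) s) : _) ?_
    exact congrArg _ (CohFree.evalGen_ofSect J V.unop (I.cycles q) s)

variable [I.IsKInjective]

theorem app_surjective (V : Opens X) : Function.Surjective (app φ q V) :=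
  (Rest.eta_surjective φ q _).comp (AddEquiv.surjective _)

theorem app_eq_zero_iff (V : Opens X) (s : (I.cycles q).obj.obj (op V)) :
    app φ q V s = 0 ↔ ∃ t : (I.X (q - 1)).obj.obj (op V), (I.toCycles (q - 1) q).hom.app (op V) t = s := by
  refine (Rest.eta_eq_zero_iff φ q _ _).trans ⟨?_, ?_⟩
  · rintro ⟨g, hg⟩
    refine ⟨CohFree.homEquivSect J V _ g, ?_⟩
    have h1 := congrArg (CohFree.homEquivSect J V (I.cycles q)) hg
    exact h1.trans (AddEquiv.apply_symm_apply _ s)
  · rintro ⟨t, rfl⟩
    refine ⟨(CohFree.homEquivSect J V _).symm t, ?_⟩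
    refine ((AddEquiv.symm_apply_eq _).2 ?_).symm
    exact congrArg ((I.toCycles (q - 1) q).hom.app (op V)) (CohFree.evalGen_ofSect J V (I.X (q - 1)) t).symm

end Groth.Agent.HyperCech.Zq
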